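import Cfsg.Agent.Lib.D4Square.Cosets

/-!
Elements `w n`, `w` in the radical, in the open cell of the parabolic subgroup, and their Levi parts.
-/

set_option autoImplicit false
set_option linter.unusedSectionVars false

namespace CfsgLib.D4Square

open Cfsg.Lie CfsgLib.Chev CfsgLib.ChevField CfsgLib.G2Invol CfsgLib.ChevSL2 CfsgLib.SteinbergTwo
open Matrix CfsgLib.Twisted
open CfsgLib.Twisted.D4 (tb comm_one sym sym_test sym_nodeTest orbit_ok sym_bnTest)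

section algebra

variable {K : Type*} [Field K]

local notation "x" => elX chevD4 K

theorem comm_of {r s : ℕ} (h : r < chevD4.nroots ∧ s < chevD4.nroots ∧ s ≠ chevD4.neg r ∧
    chevD4.commTerms r s = []) (t u : K) : Commute (x r t) (x s u) :=
  ChevCent.commute_elX hc comm_one h.1 h.2.1 h.2.2.1 (by rw [h.2.2.2]; simp) t u

theorem comm_term {r s v : ℕ} {M : ℤ} (h : r < chevD4.nroots ∧ s < chevD4.nroots ∧ v < chevD4.nroots ∧
    s ≠ r ∧ s ≠ chevD4.neg r ∧ chevD4.commTerms r s = [(v, M, 1, 1)] ∧ v ≠ chevD4.neg s ∧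
    chevD4.commTerms s v = []) (t u : K) :
    x s u * x r t = x r t * x v ((M : K) * (-t) * u) * x s u := by
  obtain ⟨hr, hs, hv, h1, h2, hM, h3, h4⟩ := h
  rw [elX_comm hc comm_one hr hs h1 h2, ChevalleyDatum.commWord, hM]
  simp only [List.map_cons, List.map_nil, wordGL, List.prod_cons, List.prod_nil, mul_one, pow_one]
  rw [mul_assoc (x r t), mul_assoc (x r t), (comm_of ⟨hs, hv, h3, h4⟩ _ _).eq]

theorem uGen_commute {P Q : ℕ → Prop}
    (h : ∀ r s, r < chevD4.nroots → s < chevD4.nroots → P r → Q s →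
      s ≠ chevD4.neg r ∧ chevD4.commTerms r s = [])
    {a b : GL chevD4.Idx K} (ha : a ∈ uGen chevD4 K P) (hb : b ∈ uGen chevD4 K Q) : Commute a b := by
  have key : ∀ r, r < chevD4.nroots → P r → ∀ t, Commute (x r t) b := by
    intro r hr hp t
    induction hb using Subgroup.closure_induction with
    | mem y hy =>
      obtain ⟨s, u, hs, hq, rfl⟩ := hy
      exact comm_of ⟨hr, hs, h r s hr hs hp hq⟩ t u
    | one => exact Commute.one_right _
    | mul _ _ _ _ h1 h2 => exact h1.mul_right h2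
    | inv _ _ h1 => exact h1.inv_right
  induction ha using Subgroup.closure_induction with
  | mem y hy =>
    obtain ⟨r, t, hr, hp, rfl⟩ := hy
    exact key r hr hp t
  | one => exact Commute.one_left _
  | mul _ _ _ _ h1 h2 => exact h1.mul_left h2
  | inv _ _ h1 => exact h1.inv_left

theorem uGen_conj {P Q : ℕ → Prop} {L : List (Fin chevD4.rank)}
    (h : ∀ r, r < chevD4.nroots → P r → Q (sigs chevD4 tb L r)) {g : GL chevD4.Idx K}
    (hg : g ∈ uGen chevD4 K P) : nProd chevD4 K L * g * (nProd chevD4 K L)⁻¹ ∈ uGen chevD4 K Q := by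
  induction hg using Subgroup.closure_induction with
  | mem y hy =>
    obtain ⟨r, t, hr, hP, rfl⟩ := hy
    obtain ⟨c, -, hcx⟩ := nProd_conj_elX hc (F := K) L hr
    rw [hcx]
    exact elX_mem_uGen (sigs_lt hc L hr) (h r hr hP) _
  | one => simp
  | mul a b _ _ ha hb =>
    rw [show ∀ n : GL chevD4.Idx K, n * (a * b) * n⁻¹ = n * a * n⁻¹ * (n * b * n⁻¹) from fun n => by group]
    exact mul_mem ha hb
  | inv a _ ha =>
    rw [show ∀ n : GL chevD4.Idx K, n * a⁻¹ * n⁻¹ = (n * a * n⁻¹)⁻¹ from fun n => by group]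
    exact inv_mem ha

theorem torus_uGen {P : ℕ → Prop} (χ : Fin chevD4.rank → Kˣ) {g : GL chevD4.Idx K}
    (hg : g ∈ uGen chevD4 K P) : torus chevD4 tb K χ * g * (torus chevD4 tb K χ)⁻¹ ∈ uGen chevD4 K P := by
  induction hg using Subgroup.closure_induction with
  | mem y hy =>
    obtain ⟨r, t, hr, hP, rfl⟩ := hy
    rw [torus_conj_elX hc χ hr]
    exact elX_mem_uGen hr hP _
  | one => simp
  | mul a b _ _ ha hb =>
    rw [show ∀ n : GL chevD4.Idx K, n * (a * b) * n⁻¹ = n * a * n⁻¹ * (n * b * n⁻¹) from fun n => by group]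
    exact mul_mem ha hb
  | inv a _ ha =>
    rw [show ∀ n : GL chevD4.Idx K, n * a⁻¹ * n⁻¹ = (n * a * n⁻¹)⁻¹ from fun n => by group]
    exact inv_mem ha

theorem diag_uGen {P : ℕ → Prop} {d : GL chevD4.Idx K} (hd : d ∈ chevD4.diagonalSubgroup K)
    {g : GL chevD4.Idx K} (hg : g ∈ uGen chevD4 K P) : d * g * d⁻¹ ∈ uGen chevD4 K P := by
  obtain ⟨c, rfl⟩ := (mem_diagonal hc).1 hd
  exact torus_uGen _ hg

theorem uGen_conj' {P Q : ℕ → Prop} {L : List (Fin chevD4.rank)}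
    (h : ∀ r, r < chevD4.nroots → P r → Q (sigs chevD4 tb L.reverse r)) {g : GL chevD4.Idx K}
    (hg : g ∈ uGen chevD4 K P) : (nProd chevD4 K L)⁻¹ * g * nProd chevD4 K L ∈ uGen chevD4 K Q := by
  obtain ⟨k, hk, e⟩ := nProd_inv hc (F := K) L
  have e2 : nProd chevD4 K L = (k * nProd chevD4 K L.reverse)⁻¹ := by rw [← e, inv_inv]
  rw [e, e2, show k * nProd chevD4 K L.reverse * g * (k * nProd chevD4 K L.reverse)⁻¹ =
    k * (nProd chevD4 K L.reverse * g * (nProd chevD4 K L.reverse)⁻¹) * k⁻¹ by group]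
  exact diag_uGen hk (uGen_conj h hg)

theorem cell_identity {r : ℕ} (hr : r < chevD4.nroots) {t : K} (ht : t ≠ 0) :
    x r t * elN chevD4 K r 1 = x (chevD4.neg r) t⁻¹ *
      torus chevD4 tb K (corChar chevD4 tb r (Units.mk0 (-t) (neg_ne_zero.2 ht))) * x r (-t⁻¹) := by
  obtain ⟨f, -, hf⟩ := exists_hom hc (F := K) hr
  have e : img K (true, t) * jj = img K (false, t⁻¹) * dd (Units.mk0 (-t) (neg_ne_zero.2 ht)) * img K (true, -t⁻¹) := by
    ext i j
    fin_cases i <;> fin_cases j <;>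
      simp [SpecialLinearGroup.coe_mul, coe_img, coe_jj, coe_dd, Matrix.mul_apply, Fin.sum_univ_two, ht] <;>
      field_simp <;> ring
  have h := congrArg f e
  rw [map_mul, map_mul, map_mul, hom_jj hc hr f hf, hom_dd hc hr f hf, hf, hf, hf] at h
  exact h

theorem swap_identity {r : ℕ} (hr : r < chevD4.nroots) {s k : K} (μ : Kˣ) (hμ : (μ : K) = 1 + s * k) :
    x r s * x (chevD4.neg r) k =
      x (chevD4.neg r) (k / μ) * torus chevD4 tb K (corChar chevD4 tb r μ) * x r (s / μ) := by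
  obtain ⟨f, -, hf⟩ := exists_hom hc (F := K) hr
  have hμ0 : (μ : K) ≠ 0 := μ.ne_zero
  have e : img K (true, s) * img K (false, k) = img K (false, k / μ) * dd μ * img K (true, s / μ) := by
    ext i j
    fin_cases i <;> fin_cases j <;>
      simp [SpecialLinearGroup.coe_mul, coe_img, coe_dd, Matrix.mul_apply, Fin.sum_univ_two] <;>
      field_simp <;> rw [hμ] <;> ring
  have h := congrArg f e
  rw [map_mul, map_mul, map_mul, hom_dd hc hr f hf, hf, hf, hf, hf] at h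
  exact h

/-- the roots of a pair -/
def PairRoot (r : ℕ) (v : ℕ) : Prop := v = r ∨ v = chevD4.neg r

theorem pair_comm : ∀ rs ∈ ([(18, 13), (18, 12), (13, 12)] : List (ℕ × ℕ)), ∀ v w : Fin chevD4.nroots,
    (v.val = rs.1 ∨ v.val = chevD4.neg rs.1) → (w.val = rs.2 ∨ w.val = chevD4.neg rs.2) →
      w.val ≠ chevD4.neg v.val ∧ chevD4.commTerms v.val w.val = [] := by
  decide +kernel

theorem comm_pairs {a b : GL chevD4.Idx K} (rs : ℕ × ℕ) (hrs : rs ∈ ([(18, 13), (18, 12), (13, 12)] : List (ℕ × ℕ)))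
    (ha : a ∈ uGen chevD4 K (PairRoot rs.1)) (hb : b ∈ uGen chevD4 K (PairRoot rs.2)) : Commute a b :=
  uGen_commute (fun r s hr hs h1 h2 => pair_comm rs hrs ⟨r, hr⟩ ⟨s, hs⟩ h1 h2) ha hb

theorem regroup {G : Type*} [Group G] {a0 a1 a2 b0 b1 b2 : G} (h01 : Commute a1 b0) (h02 : Commute a2 b0)
    (h12 : Commute a2 b1) : a0 * a1 * a2 * (b0 * b1 * b2) = a0 * b0 * (a1 * b1) * (a2 * b2) := by
  calc a0 * a1 * a2 * (b0 * b1 * b2) = a0 * (a1 * (a2 * b0) * b1 * b2) := by group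
    _ = a0 * ((a1 * b0) * (a2 * b1) * b2) := by rw [h02.eq]; group
    _ = _ := by rw [h01.eq, h12.eq]; group

/-- three commuting components of the form `a h b` -/
theorem regroup3 {G : Type*} [Group G] {a0 a1 a2 h0 h1 h2 b0 b1 b2 : G}
    (H1 : ∀ u ∈ ({h0, b0} : Set G), Commute u a1) (H2 : ∀ u ∈ ({h0, b0} : Set G), Commute u a2)
    (H3 : ∀ u ∈ ({h1, b1} : Set G), Commute u a2) (K1 : Commute b0 h1) (K2 : Commute b0 h2)
    (K3 : Commute b1 h2) :
    a0 * h0 * b0 * (a1 * h1 * b1) * (a2 * h2 * b2) = a0 * a1 * a2 * (h0 * h1 * h2) * (b0 * b1 * b2) := by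
  simp only [Set.mem_insert_iff, Set.mem_singleton_iff, forall_eq_or_imp, forall_eq] at H1 H2 H3
  calc a0 * h0 * b0 * (a1 * h1 * b1) * (a2 * h2 * b2)
      = a0 * h0 * (b0 * a1) * h1 * (b1 * a2) * h2 * b2 := by group
    _ = a0 * (h0 * a1) * (b0 * h1) * a2 * (b1 * h2) * b2 := by rw [H1.2.eq, H3.2.eq]; group
    _ = a0 * a1 * h0 * h1 * (b0 * a2) * h2 * b1 * b2 := by rw [H1.1.eq, K1.eq, K3.eq]; group
    _ = a0 * a1 * h0 * (h1 * a2) * (b0 * h2) * b1 * b2 := by rw [H2.2.eq]; group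
    _ = a0 * a1 * (h0 * a2) * h1 * h2 * b0 * b1 * b2 := by rw [H3.1.eq, K2.eq]; group
    _ = _ := by rw [H2.1.eq]; group

theorem pair_mem {r : ℕ} (hr : r < chevD4.nroots) (t : K) :
    x r t ∈ uGen chevD4 K (PairRoot r) ∧ x (chevD4.neg r) t ∈ uGen chevD4 K (PairRoot r) :=
  ⟨elX_mem_uGen hr (P := PairRoot r) (Or.inl rfl) t,
    elX_mem_uGen (neg_lt hc hr) (P := PairRoot r) (Or.inr rfl) t⟩

theorem pair_elN {r : ℕ} (hr : r < chevD4.nroots) : elN chevD4 K r 1 ∈ uGen chevD4 K (PairRoot r) :=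
  mul_mem (mul_mem (pair_mem hr 1).1 (pair_mem hr _).2) (pair_mem hr 1).1

theorem pair_tor {r : ℕ} (hr : r < chevD4.nroots) (z : Kˣ) :
    torus chevD4 tb K (corChar chevD4 tb r z) ∈ uGen chevD4 K (PairRoot r) := by
  have ht : -(z : K) ≠ 0 := neg_ne_zero.2 z.ne_zero
  have h := cell_identity hr ht
  rw [show Units.mk0 (- -(z : K)) (neg_ne_zero.2 ht) = z from Units.ext (neg_neg _)] at h
  have h' : torus chevD4 tb K (corChar chevD4 tb r z) =
      (x (chevD4.neg r) (-(z : K))⁻¹)⁻¹ * (x r (-(z : K)) * elN chevD4 K r 1) * (x r (-(-(z : K))⁻¹))⁻¹ := by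
    rw [h]; group
  rw [h']
  exact mul_mem (mul_mem (inv_mem (pair_mem hr _).2) (mul_mem (pair_mem hr _).1 (pair_elN hr)))
    (inv_mem (pair_mem hr _).1)

theorem negs : chevD4.neg 18 = 5 ∧ chevD4.neg 13 = 10 ∧ chevD4.neg 12 = 11 := by decide +kernel

/-- the three coroot values of the outer nodes together -/
noncomputable def outTor (z : Fin 3 → Kˣ) : GL chevD4.Idx K :=
  torus chevD4 tb K (corChar chevD4 tb 18 (z 0)) * torus chevD4 tb K (corChar chevD4 tb 13 (z 1)) *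
    torus chevD4 tb K (corChar chevD4 tb 12 (z 2))

/-- the cell identity for the outer orbit -/
theorem cell3 {t0 t1 t2 : K} (h0 : t0 ≠ 0) (h1 : t1 ≠ 0) (h2 : t2 ≠ 0) :
    x 18 t0 * x 13 t1 * x 12 t2 * nProd chevD4 K wA =
      x 5 t0⁻¹ * x 10 t1⁻¹ * x 11 t2⁻¹ *
        outTor ![Units.mk0 (-t0) (neg_ne_zero.2 h0), Units.mk0 (-t1) (neg_ne_zero.2 h1),
          Units.mk0 (-t2) (neg_ne_zero.2 h2)] *
        (x 18 (-t0⁻¹) * x 13 (-t1⁻¹) * x 12 (-t2⁻¹)) := by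
  obtain ⟨g0, g1, g2⟩ := negs
  have l0 : 18 < chevD4.nroots := by decide
  have l1 : 13 < chevD4.nroots := by decide
  have l2 : 12 < chevD4.nroots := by decide
  have c01 : (18, 13) ∈ ([(18, 13), (18, 12), (13, 12)] : List (ℕ × ℕ)) := by simp
  have c02 : (18, 12) ∈ ([(18, 13), (18, 12), (13, 12)] : List (ℕ × ℕ)) := by simp
  have c12 : (13, 12) ∈ ([(18, 13), (18, 12), (13, 12)] : List (ℕ × ℕ)) := by simp
  rw [wA, nProd_cons, nProd_cons, nProd_cons, nProd_nil, mul_one, simple_vals.1, simple_vals.2.2.1,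
    simple_vals.2.2.2, ← mul_assoc (elN chevD4 K 18 1)]
  rw [regroup (comm_pairs _ c01 (pair_elN l0) (pair_mem l1 _).1).symm
    (comm_pairs _ c02 (pair_elN l0) (pair_mem l2 _).1).symm
    (comm_pairs _ c12 (pair_elN l1) (pair_mem l2 _).1).symm, cell_identity l0 h0, cell_identity l1 h1,
    cell_identity l2 h2, g0, g1, g2]
  refine regroup3 ?_ ?_ ?_ (comm_pairs _ c01 (pair_mem l0 _).1 (pair_tor l1 _))
    (comm_pairs _ c02 (pair_mem l0 _).1 (pair_tor l2 _)) (comm_pairs _ c12 (pair_mem l1 _).1 (pair_tor l2 _))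
  · rintro u (rfl | rfl)
    · exact comm_pairs _ c01 (pair_tor l0 _) (g1 ▸ (pair_mem l1 _).2)
    · exact comm_pairs _ c01 (pair_mem l0 _).1 (g1 ▸ (pair_mem l1 _).2)
  · rintro u (rfl | rfl)
    · exact comm_pairs _ c02 (pair_tor l0 _) (g2 ▸ (pair_mem l2 _).2)
    · exact comm_pairs _ c02 (pair_mem l0 _).1 (g2 ▸ (pair_mem l2 _).2)
  · rintro u (rfl | rfl)
    · exact comm_pairs _ c12 (pair_tor l1 _) (g2 ▸ (pair_mem l2 _).2)
    · exact comm_pairs _ c12 (pair_mem l1 _).1 (g2 ▸ (pair_mem l2 _).2)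

/-- the swap identity for the outer orbit -/
theorem swap3 {s0 s1 s2 k0 k1 k2 : K} (μ : Fin 3 → Kˣ) (e0 : (μ 0 : K) = 1 + s0 * k0)
    (e1 : (μ 1 : K) = 1 + s1 * k1) (e2 : (μ 2 : K) = 1 + s2 * k2) :
    x 18 s0 * x 13 s1 * x 12 s2 * (x 5 k0 * x 10 k1 * x 11 k2) =
      x 5 (k0 / μ 0) * x 10 (k1 / μ 1) * x 11 (k2 / μ 2) * outTor μ *
        (x 18 (s0 / μ 0) * x 13 (s1 / μ 1) * x 12 (s2 / μ 2)) := by
  obtain ⟨g0, g1, g2⟩ := negs
  have l0 : 18 < chevD4.nroots := by decide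
  have l1 : 13 < chevD4.nroots := by decide
  have l2 : 12 < chevD4.nroots := by decide
  have c01 : (18, 13) ∈ ([(18, 13), (18, 12), (13, 12)] : List (ℕ × ℕ)) := by simp
  have c02 : (18, 12) ∈ ([(18, 13), (18, 12), (13, 12)] : List (ℕ × ℕ)) := by simp
  have c12 : (13, 12) ∈ ([(18, 13), (18, 12), (13, 12)] : List (ℕ × ℕ)) := by simp
  rw [← g0, ← g1, ← g2, regroup (comm_pairs _ c01 (pair_mem l0 _).2 (pair_mem l1 _).1).symm
    (comm_pairs _ c02 (pair_mem l0 _).2 (pair_mem l2 _).1).symm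
    (comm_pairs _ c12 (pair_mem l1 _).2 (pair_mem l2 _).1).symm, swap_identity l0 (μ 0) e0,
    swap_identity l1 (μ 1) e1, swap_identity l2 (μ 2) e2, g0, g1, g2]
  refine regroup3 ?_ ?_ ?_ (comm_pairs _ c01 (pair_mem l0 _).1 (pair_tor l1 _))
    (comm_pairs _ c02 (pair_mem l0 _).1 (pair_tor l2 _)) (comm_pairs _ c12 (pair_mem l1 _).1 (pair_tor l2 _))
  · rintro u (rfl | rfl)
    · exact comm_pairs _ c01 (pair_tor l0 _) (g1 ▸ (pair_mem l1 _).2)
    · exact comm_pairs _ c01 (pair_mem l0 _).1 (g1 ▸ (pair_mem l1 _).2)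
  · rintro u (rfl | rfl)
    · exact comm_pairs _ c02 (pair_tor l0 _) (g2 ▸ (pair_mem l2 _).2)
    · exact comm_pairs _ c02 (pair_mem l0 _).1 (g2 ▸ (pair_mem l2 _).2)
  · rintro u (rfl | rfl)
    · exact comm_pairs _ c12 (pair_tor l1 _) (g2 ▸ (pair_mem l2 _).2)
    · exact comm_pairs _ c12 (pair_mem l1 _).1 (g2 ▸ (pair_mem l2 _).2)

/-- negative coefficient at the central node -/
def Negb (r : ℕ) : Prop := rv chevD4 tb r i1 < 0

theorem negb_norm : ∀ r : Fin chevD4.nroots, r.val ∈ [18, 13, 12, 5, 10, 11] → rv chevD4 tb r.val i1 = 0 := by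
  decide +kernel

theorem negb_conj {r : ℕ} (hr : r < chevD4.nroots) (h : r ∈ [18, 13, 12, 5, 10, 11]) (t : K)
    {g : GL chevD4.Idx K} (hg : g ∈ uGen chevD4 K Negb) : x r t * g * (x r t)⁻¹ ∈ uGen chevD4 K Negb := by
  have h0 := negb_norm ⟨r, hr⟩ h
  refine (Subgroup.mem_normalizer_iff.1 (elX_mem_normalizer hc comm_one hr
    (fun s _ hs _ => ⟨fun e => ?_, fun v hv => ?_⟩) t) g).1 hg
  · rw [Negb, e, rv_neg hc hr, Pi.neg_apply, h0, neg_zero] at hs
    exact lt_irrefl _ hs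
  · obtain ⟨-, i, j, -, hj, e⟩ := hv
    have := congrFun e i1
    simp only [Pi.add_apply, Pi.smul_apply, smul_eq_mul, h0, mul_zero, zero_add] at this
    show rv chevD4 tb v i1 < 0
    rw [this]
    exact mul_neg_of_pos_of_neg (by exact_mod_cast hj) hs

theorem negb_cases : ∀ r : Fin chevD4.nroots, rv chevD4 tb r.val i1 < 0 → r.val = 9 ∨ lv r.val < 0 := by
  unfold lv lvf; decide +kernel

theorem negb_split {g : GL chevD4.Idx K} (hg : g ∈ uGen chevD4 K Negb) :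
    ∃ a ∈ RadM K, ∃ c : K, g = a * x 9 c := by
  have n9 : 9 < chevD4.nroots := by decide
  induction hg using Subgroup.closure_induction with
  | mem y hy =>
    obtain ⟨r, t, hr, hp, rfl⟩ := hy
    rcases negb_cases ⟨r, hr⟩ hp with e | e
    · obtain rfl : r = 9 := e
      exact ⟨1, one_mem _, t, (one_mul _).symm⟩
    · exact ⟨x r t, elX_mem_uGen hr (P := Uneg) e t, 0, by rw [elX_zero hc K n9, mul_one]⟩
  | one => exact ⟨1, one_mem _, 0, by rw [elX_zero hc K n9, mul_one]⟩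
  | mul y z _ _ hy hz =>
    obtain ⟨a, ha, c, rfl⟩ := hy
    obtain ⟨a', ha', c', rfl⟩ := hz
    refine ⟨a * (x 9 c * a' * (x 9 c)⁻¹), mul_mem ha (by rw [elX9_lev]; exact lev_conj_radM _ ha'), c + c', ?_⟩
    rw [← elX_add hc K n9]; group
  | inv y _ hy =>
    obtain ⟨a, ha, c, rfl⟩ := hy
    refine ⟨x 9 (-c) * a⁻¹ * (x 9 (-c))⁻¹, by rw [elX9_lev]; exact lev_conj_radM _ (inv_mem ha), -c, ?_⟩
    rw [← elX_inv hc K n9]; group

theorem term_facts :
    (chevD4.commTerms 3 15 = [(5, 1, 1, 1)] ∧ chevD4.commTerms 6 15 = [(10, -1, 1, 1)] ∧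
      chevD4.commTerms 2 16 = [(5, 1, 1, 1)] ∧ chevD4.commTerms 6 16 = [(11, -1, 1, 1)] ∧
      chevD4.commTerms 10 16 = [(14, 1, 1, 1)] ∧ chevD4.commTerms 3 19 = [(11, -1, 1, 1)] ∧
      chevD4.commTerms 2 19 = [(10, -1, 1, 1)] ∧ chevD4.commTerms 5 19 = [(14, -1, 1, 1)]) := by
  refine ⟨?_, ?_, ?_, ?_, ?_, ?_, ?_, ?_⟩ <;> decide +kernel

theorem term_side : ∀ rsv ∈ ([(3, 15, 5), (6, 15, 10), (2, 16, 5), (6, 16, 11), (10, 16, 14), (3, 19, 11),
    (2, 19, 10), (5, 19, 14)] : List (ℕ × ℕ × ℕ)),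
    rsv.1 < chevD4.nroots ∧ rsv.2.1 < chevD4.nroots ∧ rsv.2.2 < chevD4.nroots ∧ rsv.2.1 ≠ rsv.1 ∧
    rsv.2.1 ≠ chevD4.neg rsv.1 ∧ rsv.2.2 ≠ chevD4.neg rsv.2.1 ∧ chevD4.commTerms rsv.2.1 rsv.2.2 = [] := by
  decide +kernel

theorem comm_facts : ∀ rs ∈ ([(15, 2), (16, 3), (16, 5), (19, 6), (19, 11), (19, 10), (19, 14), (14, 2), (14, 6),
    (14, 10), (14, 11), (14, 5), (14, 3), (5, 11), (5, 10), (10, 11)] : List (ℕ × ℕ)),
    rs.1 < chevD4.nroots ∧ rs.2 < chevD4.nroots ∧ rs.2 ≠ chevD4.neg rs.1 ∧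
      chevD4.commTerms rs.1 rs.2 = [] := by
  decide +kernel

/-- grade at most minus two -/
def Deep (r : ℕ) : Prop := lv r ≤ -2

theorem deep_facts : ∀ r : Fin chevD4.nroots, (r.val ∈ [3, 2, 6] → lv r.val ≤ -2) ∧
    (r.val ∈ [5, 10, 11] → lv r.val = -1) ∧ (lv r.val ≤ -2 → rv chevD4 tb r.val i1 < 0) := by
  unfold lv lvf; decide +kernel

theorem deep_conj {r : ℕ} (hr : r < chevD4.nroots) (h : r ∈ [5, 10, 11]) (t : K)
    {g : GL chevD4.Idx K} (hg : g ∈ uGen chevD4 K Deep) : x r t * g * (x r t)⁻¹ ∈ uGen chevD4 K Deep := by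
  have h0 := (deep_facts ⟨r, hr⟩).2.1 h
  refine (Subgroup.mem_normalizer_iff.1 (elX_mem_normalizer hc comm_one hr
    (fun s _ hs _ => ⟨fun e => ?_, fun v hv => ?_⟩) t) g).1 hg
  · rw [Deep, e, lv, rv_neg hc hr, show -rv chevD4 tb r = (-1 : ℤ) • rv chevD4 tb r by simp, lvf_smul, ← lv, h0] at hs
    norm_num at hs
  · obtain ⟨-, i, j, -, hj, e⟩ := hv
    show lv v ≤ -2
    have hs' : lv s ≤ -2 := hs
    rw [lv, e, lvf_add, lvf_smul, lvf_smul, ← lv, ← lv, h0]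
    have hi0 : (0 : ℤ) ≤ (i : ℤ) := Int.natCast_nonneg i
    have hj1 : (1 : ℤ) ≤ (j : ℤ) := by exact_mod_cast hj
    nlinarith

theorem deep_negb {g : GL chevD4.Idx K} (hg : g ∈ uGen chevD4 K Deep) : g ∈ uGen chevD4 K Negb :=
  uGen_mono (fun r hr h => (deep_facts ⟨r, hr⟩).2.2 h) hg

theorem deep_radM {g : GL chevD4.Idx K} (hg : g ∈ uGen chevD4 K Deep) : g ∈ RadM K :=
  uGen_mono (fun r _ (h : lv r ≤ -2) => show lv r < 0 by omega) hg

theorem collect {G : Type*} [Group G] {X3 X2 X6 A C1 D C2 B C3 E F : G}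
    (h12 : Commute C1 X2) (h1B : Commute C1 B) (h1A : Commute C1 D) (h16 : Commute C1 X6) (h1E : Commute C1 E)
    (h26 : Commute C2 X6) (h2E : Commute C2 E) (h1F : Commute C1 F) (h2F : Commute C2 F) :
    X3 * A * C1 * X2 * (D * B) * C2 * X6 * (E * F) * C3 =
      X3 * A * X2 * (D * B) * X6 * (E * F) * (C1 * C2 * C3) := by
  have e1 : Commute C1 (X2 * (D * B)) := h12.mul_right (h1A.mul_right h1B)
  have e2 : Commute C1 (X6 * (E * F)) := h16.mul_right (h1E.mul_right h1F)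
  have e3 : Commute C2 (X6 * (E * F)) := h26.mul_right (h2E.mul_right h2F)
  calc X3 * A * C1 * X2 * (D * B) * C2 * X6 * (E * F) * C3
      = X3 * A * (C1 * (X2 * (D * B))) * (C2 * (X6 * (E * F))) * C3 := by group
    _ = X3 * A * (X2 * (D * B)) * (C1 * (X6 * (E * F))) * C2 * C3 := by rw [e1.eq, e3.eq]; group
    _ = _ := by rw [e2.eq]; group

/-- moving the short radical elements of grade one through the opposite top orbit -/
theorem lead_identity (a b c τ1 τ2 τ3 : K) :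
    ∃ m ∈ uGen chevD4 K Deep, x 19 a * x 16 b * x 15 c * (x 3 τ1 * x 2 τ2 * x 6 τ3) =
      m * (x 5 (-τ1 * c - τ2 * b) * x 10 (τ2 * a + τ3 * c) * x 11 (τ1 * a + τ3 * b)) *
        x 14 (-τ3 * b * c - a * (τ1 * c + τ2 * b)) * (x 19 a * x 16 b * x 15 c) := by
  obtain ⟨t1, t2, t3, t4, t5, t6, t7, t8⟩ := term_facts
  have ct : ∀ r s v : ℕ, ∀ M : ℤ, (r, s, v) ∈ ([(3, 15, 5), (6, 15, 10), (2, 16, 5), (6, 16, 11), (10, 16, 14),
      (3, 19, 11), (2, 19, 10), (5, 19, 14)] : List (ℕ × ℕ × ℕ)) → chevD4.commTerms r s = [(v, M, 1, 1)] →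
      ∀ t u : K, x s u * x r t = x r t * x v ((M : K) * (-t) * u) * x s u := by
    intro r s v M h hM t u
    obtain ⟨a, b, c, d, e, f, g⟩ := term_side (r, s, v) h
    exact comm_term ⟨a, b, c, d, e, hM, f, g⟩ t u
  have cf : ∀ r s : ℕ, (r, s) ∈ ([(15, 2), (16, 3), (16, 5), (19, 6), (19, 11), (19, 10), (19, 14), (14, 2), (14, 6),
      (14, 10), (14, 11), (14, 5), (14, 3), (5, 11), (5, 10), (10, 11)] : List (ℕ × ℕ)) →
      ∀ t u : K, Commute (x r t) (x s u) := fun r s h t u => comm_of (comm_facts (r, s) h) t u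
  set A := x 19 a with hA
  set B := x 16 b with hB
  set C := x 15 c with hC
  set X3 := x 3 τ1
  set X2 := x 2 τ2
  set X6 := x 6 τ3
  set p1 := x 5 (-τ1 * c)
  set q3 := x 10 (τ3 * c) with hq3
  have r1 : C * X3 = X3 * p1 * C := by
    rw [hC, ct 3 15 5 1 (by simp) t1]; congr 3; push_cast; ring
  have r2 : C * X2 = X2 * C := (cf 15 2 (by simp) _ _).eq
  have r3 : C * X6 = X6 * q3 * C := by
    rw [hC, ct 6 15 10 (-1) (by simp) t2, hq3]; congr 3; push_cast; ring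
  set p2 := x 5 (-τ2 * b)
  set o3 := x 11 (τ3 * b)
  set C3 := x 14 (-τ3 * b * c)
  have u1 : B * X3 = X3 * B := (cf 16 3 (by simp) _ _).eq
  have u2 : B * p1 = p1 * B := (cf 16 5 (by simp) _ _).eq
  have u3 : B * X2 = X2 * p2 * B := by
    rw [hB, ct 2 16 5 1 (by simp) t3]; congr 3; push_cast; ring
  have u4 : B * X6 = X6 * o3 * B := by
    rw [hB, ct 6 16 11 (-1) (by simp) t4]; congr 3; push_cast; ring
  have u5 : B * q3 = q3 * C3 * B := by
    rw [hB, hq3, ct 10 16 14 1 (by simp) t5]; congr 3; push_cast; ring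
  set o1 := x 11 (τ1 * a)
  set q2 := x 10 (τ2 * a)
  set C1 := x 14 (-τ1 * c * a)
  set C2 := x 14 (-τ2 * b * a)
  have w1 : A * X3 = X3 * o1 * A := by
    rw [hA, ct 3 19 11 (-1) (by simp) t6]; congr 3; push_cast; ring
  have w2 : A * p1 = p1 * C1 * A := by
    rw [hA, ct 5 19 14 (-1) (by simp) t8]; congr 3; push_cast; ring
  have w3 : A * X2 = X2 * q2 * A := by
    rw [hA, ct 2 19 10 (-1) (by simp) t7]; congr 3; push_cast; ring
  have w4 : A * p2 = p2 * C2 * A := by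
    rw [hA, ct 5 19 14 (-1) (by simp) t8]; congr 3; push_cast; ring
  have w5 : A * X6 = X6 * A := (cf 19 6 (by simp) _ _).eq
  have w6 : A * o3 = o3 * A := (cf 19 11 (by simp) _ _).eq
  have w7 : A * q3 = q3 * A := (cf 19 10 (by simp) _ _).eq
  have w8 : A * C3 = C3 * A := (cf 19 14 (by simp) _ _).eq
  have e0 : A * B * C * (X3 * X2 * X6) =
      X3 * (o1 * p1) * C1 * X2 * (q2 * p2) * C2 * X6 * (o3 * q3) * C3 * (A * B * C) := by
    calc A * B * C * (X3 * X2 * X6) = A * B * (C * X3) * X2 * X6 := by group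
      _ = A * B * X3 * p1 * (C * X2) * X6 := by rw [r1]; group
      _ = A * B * X3 * p1 * X2 * (C * X6) := by rw [r2]; group
      _ = A * (B * X3) * p1 * X2 * X6 * q3 * C := by rw [r3]; group
      _ = A * X3 * (B * p1) * X2 * X6 * q3 * C := by rw [u1]; group
      _ = A * X3 * p1 * (B * X2) * X6 * q3 * C := by rw [u2]; group
      _ = A * X3 * p1 * X2 * p2 * (B * X6) * q3 * C := by rw [u3]; group
      _ = A * X3 * p1 * X2 * p2 * X6 * o3 * (B * q3) * C := by rw [u4]; group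
      _ = (A * X3) * p1 * X2 * p2 * X6 * o3 * q3 * C3 * B * C := by rw [u5]; group
      _ = X3 * o1 * (A * p1) * X2 * p2 * X6 * o3 * q3 * C3 * B * C := by rw [w1]; group
      _ = X3 * o1 * p1 * C1 * (A * X2) * p2 * X6 * o3 * q3 * C3 * B * C := by rw [w2]; group
      _ = X3 * o1 * p1 * C1 * X2 * q2 * (A * p2) * X6 * o3 * q3 * C3 * B * C := by rw [w3]; group
      _ = X3 * o1 * p1 * C1 * X2 * q2 * p2 * C2 * (A * X6) * o3 * q3 * C3 * B * C := by rw [w4]; group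
      _ = X3 * o1 * p1 * C1 * X2 * q2 * p2 * C2 * X6 * (A * o3) * q3 * C3 * B * C := by rw [w5]; group
      _ = X3 * o1 * p1 * C1 * X2 * q2 * p2 * C2 * X6 * o3 * (A * q3) * C3 * B * C := by rw [w6]; group
      _ = X3 * o1 * p1 * C1 * X2 * q2 * p2 * C2 * X6 * o3 * q3 * (A * C3) * B * C := by rw [w7]; group
      _ = _ := by rw [w8]; group
  have e1 : X3 * (o1 * p1) * C1 * X2 * (q2 * p2) * C2 * X6 * (o3 * q3) * C3 =
      X3 * (o1 * p1) * X2 * (q2 * p2) * X6 * (o3 * q3) * (C1 * C2 * C3) :=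
    collect (cf 14 2 (by simp) _ _) (cf 14 5 (by simp) _ _) (cf 14 10 (by simp) _ _) (cf 14 6 (by simp) _ _)
      (cf 14 11 (by simp) _ _) (cf 14 6 (by simp) _ _) (cf 14 11 (by simp) _ _) (cf 14 10 (by simp) _ _)
      (cf 14 10 (by simp) _ _)
  have hC123 : C1 * C2 * C3 = x 14 (-τ3 * b * c - a * (τ1 * c + τ2 * b)) := by
    rw [elX_add hc K n14, elX_add hc K n14]; congr 1; ring
  have hk : o1 * p1 * (q2 * p2) * (o3 * q3) =
      x 5 (-τ1 * c - τ2 * b) * x 10 (τ2 * a + τ3 * c) * x 11 (τ1 * a + τ3 * b) := by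
    have a1 : Commute o1 p1 := (cf 5 11 (by simp) _ _).symm
    have a2 : Commute q2 p2 := (cf 5 10 (by simp) _ _).symm
    have a3 : Commute o3 q3 := (cf 10 11 (by simp) _ _).symm
    have a4 : Commute o1 p2 := (cf 5 11 (by simp) _ _).symm
    have a5 : Commute o1 (q2 * q3) := ((cf 10 11 (by simp) _ _).symm).mul_right (cf 10 11 (by simp) _ _).symm
    calc o1 * p1 * (q2 * p2) * (o3 * q3) = p1 * o1 * (p2 * q2) * (q3 * o3) := by rw [a1.eq, a2.eq, a3.eq]
      _ = p1 * (o1 * p2) * (q2 * q3) * o3 := by group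
      _ = p1 * p2 * (o1 * (q2 * q3)) * o3 := by rw [a4.eq]; group
      _ = (p1 * p2) * (q2 * q3) * (o1 * o3) := by rw [a5.eq]; group
      _ = _ := by
        rw [elX_add hc K (by decide : 5 < chevD4.nroots), elX_add hc K (by decide : 10 < chevD4.nroots),
          elX_add hc K (by decide : 11 < chevD4.nroots)]
        congr 3; ring
  refine ⟨X3 * (o1 * p1 * X2 * (o1 * p1)⁻¹) * (o1 * p1 * (q2 * p2) * X6 * (o1 * p1 * (q2 * p2))⁻¹), ?_, ?_⟩
  · have hX : ∀ r : ℕ, r < chevD4.nroots → r ∈ [3, 2, 6] → ∀ t, x r t ∈ uGen chevD4 K Deep :=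
      fun r hr h t => elX_mem_uGen hr (P := Deep) ((deep_facts ⟨r, hr⟩).1 h) t
    have conj2 : ∀ g ∈ uGen chevD4 K Deep, ∀ r s : ℕ, r < chevD4.nroots → s < chevD4.nroots →
        r ∈ [5, 10, 11] → s ∈ [5, 10, 11] → ∀ t u,
        x r t * x s u * g * (x r t * x s u)⁻¹ ∈ uGen chevD4 K Deep := by
      intro g hg r s hr hs h1 h2 t u
      rw [show x r t * x s u * g * (x r t * x s u)⁻¹ = x r t * (x s u * g * (x s u)⁻¹) * (x r t)⁻¹ by group]
      exact deep_conj hr h1 t (deep_conj hs h2 u hg)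
    refine mul_mem (mul_mem (hX 3 (by decide) (by simp) _)
      (conj2 _ (hX 2 (by decide) (by simp) _) 11 5 (by decide) (by decide) (by simp) (by simp) _ _)) ?_
    rw [show o1 * p1 * (q2 * p2) * X6 * (o1 * p1 * (q2 * p2))⁻¹ =
      o1 * p1 * (q2 * p2 * X6 * (q2 * p2)⁻¹) * (o1 * p1)⁻¹ by group]
    exact conj2 _ (conj2 _ (hX 6 (by decide) (by simp) _) 10 5 (by decide) (by decide) (by simp) (by simp) _ _)
      11 5 (by decide) (by decide) (by simp) (by simp) _ _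
  · rw [e0, e1, hC123, ← hk]; group

end algebra

section twisted

variable {K : Type*} [Field K] [Fintype K] {F : Type*} [Field F] {φ : K ≃+* K} {ι : F →+* K}

/-- `k` is the Levi part of some `w n` with `w` in the radical -/
def Hits (φ : K ≃+* K) (ι : F →+* K) (n : GL chevD4.Idx K) (k : GL (Fin 2) F × Kˣ) : Prop :=
  k ∈ Lsub φ ι ∧ ∃ w ∈ Up φ, ∃ a ∈ RadM K, ∃ b ∈ RadP K, w * n = a * lvt φ ι k * b

theorem Hits.upper (h : Fld φ ι) {n : GL chevD4.Idx K} (hnG : n ∈ GG φ) {k : GL (Fin 2) F × Kˣ}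
    (hk : Hits φ ι n k) (σ : F) (hn : n * elX chevD4 K 14 (ι σ) * n⁻¹ ∈ RadP K) :
    Hits φ ι n (k * D4Square.upper σ) := by
  obtain ⟨hkL, w, hw, a, ha, b, hb, e⟩ := hk
  have hG : elX chevD4 K 14 (ι σ) ∈ GG φ := by
    rw [← lvt_upper φ ι σ]; exact lvt_mem h (upper_Lsub σ)
  refine ⟨mul_mem hkL (upper_Lsub σ), w * (n * elX chevD4 K 14 (ι σ) * n⁻¹),
    mul_mem hw (Subgroup.mem_inf.2 ⟨hn, mul_mem (mul_mem hnG hG) (inv_mem hnG)⟩), a, ha,
    (lvt φ ι (D4Square.upper σ))⁻¹ * b * lvt φ ι (D4Square.upper σ), lev_conj_radP' _ hb, ?_⟩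
  rw [map_mul, lvt_upper]
  calc w * (n * elX chevD4 K 14 (ι σ) * n⁻¹) * n = w * n * elX chevD4 K 14 (ι σ) := by group
    _ = _ := by rw [e]; group

theorem orbX_three (φ : K ≃+* K) {r : ℕ} (hr : r < chevD4.nroots) (h : sym.olen r = 3) (a : K) :
    orbX sym_test φ r a = elX chevD4 K r a *
      elX chevD4 K (sym.imgIter 1 r) ((sym.sgnIter 1 r : ℤ) * φ a) *
      elX chevD4 K (sym.imgIter 2 r) ((sym.sgnIter 2 r : ℤ) * φ (φ a)) := by
  rw [orbX, h, orbProd_succ, orbProd_succ, orbProd_one, twistSigma_iter_elX hc sym_test φ hr,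
    twistSigma_iter_elX hc sym_test φ hr]
  rfl

theorem orb_data : sym.olen 18 = 3 ∧ sym.olen 19 = 3 ∧ sym.olen 5 = 3 ∧ sym.olen 6 = 3 ∧
    sym.imgIter 1 18 = 13 ∧ sym.imgIter 2 18 = 12 ∧ sym.sgnIter 1 18 = 1 ∧ sym.sgnIter 2 18 = 1 ∧
    sym.imgIter 1 19 = 16 ∧ sym.imgIter 2 19 = 15 ∧ sym.sgnIter 1 19 = -1 ∧ sym.sgnIter 2 19 = -1 ∧
    sym.imgIter 1 5 = 10 ∧ sym.imgIter 2 5 = 11 ∧ sym.sgnIter 1 5 = 1 ∧ sym.sgnIter 2 5 = 1 ∧
    sym.imgIter 1 6 = 3 ∧ sym.imgIter 2 6 = 2 ∧ sym.sgnIter 1 6 = -1 ∧ sym.sgnIter 2 6 = -1 := by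
  decide +kernel

theorem orb18 (φ : K ≃+* K) (a : K) : orbX sym_test φ 18 a =
    elX chevD4 K 18 a * elX chevD4 K 13 (φ a) * elX chevD4 K 12 (φ (φ a)) := by
  obtain ⟨o, -, -, -, i1, i2, s1, s2, -⟩ := orb_data
  rw [orbX_three φ (by decide) o, i1, i2, s1, s2]; simp

theorem orb19 (φ : K ≃+* K) (a : K) : orbX sym_test φ 19 a =
    elX chevD4 K 19 a * elX chevD4 K 16 (-φ a) * elX chevD4 K 15 (-φ (φ a)) := by
  obtain ⟨-, o, -, -, -, -, -, -, i1, i2, s1, s2, -⟩ := orb_data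
  rw [orbX_three φ (by decide) o, i1, i2, s1, s2]; simp

theorem orb5 (φ : K ≃+* K) (a : K) : orbX sym_test φ 5 a =
    elX chevD4 K 5 a * elX chevD4 K 10 (φ a) * elX chevD4 K 11 (φ (φ a)) := by
  obtain ⟨-, -, o, -, -, -, -, -, -, -, -, -, i1, i2, s1, s2, -⟩ := orb_data
  rw [orbX_three φ (by decide) o, i1, i2, s1, s2]; simp

theorem orb6 (φ : K ≃+* K) (a : K) : orbX sym_test φ 6 a =
    elX chevD4 K 6 a * elX chevD4 K 3 (-φ a) * elX chevD4 K 2 (-φ (φ a)) := by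
  obtain ⟨-, -, -, o, -, -, -, -, -, -, -, -, -, -, -, -, i1, i2, s1, s2⟩ := orb_data
  rw [orbX_three φ (by decide) o, i1, i2, s1, s2]; simp

theorem isPar3 (h : Fld φ ι) {r : ℕ} (hr : sym.olen r = 3) (t : K) : IsPar sym φ r t := by
  rw [IsPar, hr]; exact h.cube t

theorem corChar_outer : ((List.finRange chevD4.rank).map fun j =>
    ((∑ k : Fin chevD4.rank, cv tb 18 k * cm chevD4 k j), (∑ k : Fin chevD4.rank, cv tb 13 k * cm chevD4 k j),
      (∑ k : Fin chevD4.rank, cv tb 12 k * cm chevD4 k j))) =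
    [(2, 0, 0), (-1, -1, -1), (0, 2, 0), (0, 0, 2)] := by decide +kernel

theorem outTor_eq (z : Fin 3 → Kˣ) :
    outTor z = lev (G2Square.diag2 1 (z 0 * z 1 * z 2), z) := by
  rw [lev_diag, outTor, ← map_mul, ← map_mul]
  congr 1
  have h := corChar_outer
  rw [show List.finRange chevD4.rank = [i0, i1, i2, i3] by decide +kernel] at h
  simp only [List.map_cons, List.map_nil, List.cons.injEq, Prod.mk.injEq, and_true] at h
  obtain ⟨⟨a0, b0, c0⟩, ⟨a1, b1, c1⟩, ⟨a2, b2, c2⟩, a3, b3, c3⟩ := h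
  apply chr4_ext <;>
    simp only [Pi.mul_apply, corChar, a0, b0, c0, a1, b1, c1, a2, b2, c2, a3, b3, c3, zpow_zero, zpow_ofNat,
      _root_.zpow_neg, zpow_one, mul_one, one_mul, div_eq_mul_inv, inv_one, pow_zero, pow_one, mul_inv]

theorem outTor_trip (u : Kˣ) {E : Fˣ} (hE : ι (E : F) = u * φ u * φ (φ u)) :
    outTor (trip φ u) = lvt φ ι (G2Square.diag2 1 E, u) := by
  rw [outTor_eq, lvt_apply]
  congr 2
  apply Units.ext
  ext i j
  fin_cases i <;> fin_cases j <;> simp [G2Square.diag2, trip, hE, coe_phiU]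

theorem diag2_Lsub {l m : Fˣ} {u : Kˣ} :
    (G2Square.diag2 l m, u) ∈ Lsub φ ι ↔ ι ((l : F) * m) = u * φ u * φ (φ u) := by
  rw [mem_Lsub, det_diag2, Units.val_mul]

theorem rad_mem : ∀ r : Fin chevD4.nroots, (r.val ∈ [18, 13, 12, 19, 16, 15, 20, 21, 17, 22, 23] → 0 < lv r.val) ∧
    (r.val ∈ [5, 10, 11, 6, 3, 2] → lv r.val < 0) := by
  unfold lv lvf; decide +kernel

theorem mem_radP {r : ℕ} (hr : r < chevD4.nroots) (h : r ∈ [18, 13, 12, 19, 16, 15, 20, 21, 17, 22, 23]) (t : K) :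
    elX chevD4 K r t ∈ RadP K :=
  elX_mem_uGen hr (P := Upos) ((rad_mem ⟨r, hr⟩).1 h) t

theorem mem_radM {r : ℕ} (hr : r < chevD4.nroots) (h : r ∈ [5, 10, 11, 6, 3, 2]) (t : K) :
    elX chevD4 K r t ∈ RadM K :=
  elX_mem_uGen hr (P := Uneg) ((rad_mem ⟨r, hr⟩).2 h) t

theorem triple_radP (a b c : ℕ) (h : a ∈ [18, 13, 12, 19, 16, 15, 20, 21, 17, 22, 23] ∧
    b ∈ [18, 13, 12, 19, 16, 15, 20, 21, 17, 22, 23] ∧ c ∈ [18, 13, 12, 19, 16, 15, 20, 21, 17, 22, 23])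
    (hl : a < chevD4.nroots ∧ b < chevD4.nroots ∧ c < chevD4.nroots) (r s t : K) :
    elX chevD4 K a r * elX chevD4 K b s * elX chevD4 K c t ∈ RadP K :=
  mul_mem (mul_mem (mem_radP hl.1 h.1 r) (mem_radP hl.2.1 h.2.1 s)) (mem_radP hl.2.2 h.2.2 t)

theorem orb18_up (h : Fld φ ι) (a : K) : orbX sym_test φ 18 a ∈ Up φ :=
  Subgroup.mem_inf.2 ⟨by rw [orb18]; exact triple_radP _ _ _ (by simp) (by decide) _ _ _,
    orbX_mem hc sym_test φ sym_nodeTest (by decide) (isPar3 h orb_data.1 a)⟩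

theorem orb19_up (h : Fld φ ι) (a : K) : orbX sym_test φ 19 a ∈ Up φ :=
  Subgroup.mem_inf.2 ⟨by rw [orb19]; exact triple_radP _ _ _ (by simp) (by decide) _ _ _,
    orbX_mem hc sym_test φ sym_nodeTest (by decide) (isPar3 h orb_data.2.1 a)⟩

theorem orb5_um (a : K) : orbX sym_test φ 5 a ∈ RadM K := by
  rw [orb5]
  exact mul_mem (mul_mem (mem_radM (by decide) (by simp) _) (mem_radM (by decide) (by simp) _))
    (mem_radM (by decide) (by simp) _)

/-- the cell identity of the outer orbit, twisted -/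
theorem cellA (h : Fld φ ι) (u : Kˣ) {E : Fˣ} (hE : ι (E : F) = u * φ u * φ (φ u)) :
    orbX sym_test φ 18 (-(u : K)) * n1 K = orbX sym_test φ 5 (-(u : K))⁻¹ *
      lvt φ ι (G2Square.diag2 1 E, u) * orbX sym_test φ 18 (u : K)⁻¹ := by
  have h0 : -(u : K) ≠ 0 := neg_ne_zero.2 u.ne_zero
  have h1 : φ (-(u : K)) ≠ 0 := by simpa using u.ne_zero
  have h2 : φ (φ (-(u : K))) ≠ 0 := by simpa using u.ne_zero
  rw [orb18, orb18, orb5, n1, cell3 h0 h1 h2, ← outTor_trip u hE]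
  congr 1
  · congr 1
    · simp [map_inv₀]
    · congr 1
      funext j
      fin_cases j <;> apply Units.ext <;> simp [trip, coe_phiU]
  · simp [map_inv₀]

theorem hits_n1 (h : Fld φ ι) (u : Kˣ) {E : Fˣ} (hE : ι (E : F) = u * φ u * φ (φ u)) :
    Hits φ ι (n1 K) (G2Square.diag2 1 E, u) := by
  refine ⟨diag2_Lsub.2 (by rw [Units.val_one, one_mul]; exact hE), _, orb18_up h _, _, orb5_um _, _,
    (orb18_up h _).1, cellA h u hE⟩

theorem n1_upper : 0 < lv (sigs chevD4 tb wA 14) := by unfold lv lvf; decide +kernel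

theorem n2_upper : 0 < lv (sigs chevD4 tb (wA ++ [i1] ++ wA) 14) := by unfold lv lvf; decide +kernel

theorem n_upper {L : List (Fin chevD4.rank)} (hL : 0 < lv (sigs chevD4 tb L 14)) (t : K) :
    nProd chevD4 K L * elX chevD4 K 14 t * (nProd chevD4 K L)⁻¹ ∈ RadP K := by
  obtain ⟨c, -, hcx⟩ := nProd_conj_elX hc (F := K) L n14
  rw [hcx]
  exact elX_mem_uGen (sigs_lt hc L n14) (P := Upos) hL _

/-- orbits of roots -/
def In18 (r : ℕ) : Prop := r ∈ [18, 13, 12]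

/-- orbits of roots -/
def In19 (r : ℕ) : Prop := r ∈ [19, 16, 15]

/-- orbits of roots -/
def In5 (r : ℕ) : Prop := r ∈ [5, 10, 11, 14]

/-- orbits of roots -/
def InTop (r : ℕ) : Prop := r ∈ [20, 21, 17]

/-- orbits of roots -/
def InBotTop (r : ℕ) : Prop := r ∈ [20, 21, 17, 6, 3, 2]

theorem conj_facts : (∀ r : Fin chevD4.nroots, r.val ∈ [18, 13, 12] → sigs chevD4 tb [i1] r.val ∈ [19, 16, 15]) ∧
    (∀ r : Fin chevD4.nroots, r.val ∈ [18, 13, 12] → sigs chevD4 tb [i1].reverse r.val ∈ [19, 16, 15]) ∧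
    (∀ r : Fin chevD4.nroots, r.val ∈ [19, 16, 15] → sigs chevD4 tb wA.reverse r.val ∈ [20, 21, 17]) ∧
    (∀ r : Fin chevD4.nroots, r.val ∈ [18, 13, 12] → sigs chevD4 tb wY r.val ∈ [20, 21, 17]) ∧
    (∀ r : Fin chevD4.nroots, r.val ∈ [18, 13, 12, 5, 10, 11] → sigs chevD4 tb wY r.val ∈ [20, 21, 17, 6, 3, 2]) := by
  decide +kernel

theorem in_rad : ∀ r : Fin chevD4.nroots, (r.val ∈ [19, 16, 15] → 0 < lv r.val) ∧ (r.val ∈ [20, 21, 17] → 0 < lv r.val) := by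
  unfold lv lvf; decide +kernel

theorem in19_radP {g : GL chevD4.Idx K} (hg : g ∈ uGen chevD4 K In19) : g ∈ RadP K :=
  uGen_mono (fun r hr h => (in_rad ⟨r, hr⟩).1 h) hg

theorem inTop_radP {g : GL chevD4.Idx K} (hg : g ∈ uGen chevD4 K InTop) : g ∈ RadP K :=
  uGen_mono (fun r hr h => (in_rad ⟨r, hr⟩).2 h) hg

theorem orb18_in (φ : K ≃+* K) (t : K) : orbX sym_test φ 18 t ∈ uGen chevD4 K In18 := by
  rw [orb18]
  exact mul_mem (mul_mem (elX_mem_uGen (by decide) (P := In18) (by simp [In18]) _)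
    (elX_mem_uGen (by decide) (P := In18) (by simp [In18]) _)) (elX_mem_uGen (by decide) (P := In18) (by simp [In18]) _)

theorem orb5_in (φ : K ≃+* K) (t : K) : orbX sym_test φ 5 t ∈ uGen chevD4 K In5 := by
  rw [orb5]
  exact mul_mem (mul_mem (elX_mem_uGen (by decide) (P := In5) (by simp [In5]) _)
    (elX_mem_uGen (by decide) (P := In5) (by simp [In5]) _)) (elX_mem_uGen (by decide) (P := In5) (by simp [In5]) _)

theorem in5_data : ∀ r : Fin chevD4.nroots,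
    (r.val ∈ [19, 16, 15] → lv r.val = 1 ∧ rv chevD4 tb r.val i1 = 1 ∧ chevD4.neg r.val ∉ [5, 10, 11, 14]) ∧
    (r.val ∈ [5, 10, 11, 14] → lv r.val = rv chevD4 tb r.val i1 - 1 ∧ 0 ≤ rv chevD4 tb r.val i1) ∧
    (0 < rv chevD4 tb r.val i1 ∧ lv r.val < rv chevD4 tb r.val i1 → r.val = 14) := by
  unfold lv lvf; decide +kernel

theorem in19_norm {z g : GL chevD4.Idx K} (hz : z ∈ uGen chevD4 K In19) (hg : g ∈ uGen chevD4 K In5) :
    z * g * z⁻¹ ∈ uGen chevD4 K In5 := by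
  have hle : uGen chevD4 K In19 ≤ Subgroup.normalizer (uGen chevD4 K In5 : Set (GL chevD4.Idx K)) := by
    rw [uGen_le_iff]
    intro r hr hp t
    obtain ⟨l1, a1, hn⟩ := (in5_data ⟨r, hr⟩).1 hp
    refine elX_mem_normalizer hc comm_one hr (fun s hs hs5 _ => ⟨fun e => hn ?_, fun v hv => ?_⟩) t
    · rw [← e]; exact hs5
    · obtain ⟨hv', i, j, hi, hj, e⟩ := hv
      obtain ⟨ls, as'⟩ := (in5_data ⟨s, hs⟩).2.1 hs5
      have hl : lv v = (i : ℤ) * lv r + (j : ℤ) * lv s := by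
        rw [lv, e, lvf_add, lvf_smul, lvf_smul]; rfl
      have ha := congrFun e i1
      simp only [Pi.add_apply, Pi.smul_apply, smul_eq_mul] at ha
      have h14 := (in5_data ⟨v, hv'⟩).2.2
      refine show v ∈ [5, 10, 11, 14] from ?_
      rw [show v = 14 from h14 ⟨?_, ?_⟩]
      · simp
      · rw [ha, a1]
        have : (0 : ℤ) ≤ (j : ℤ) * rv chevD4 tb s i1 := mul_nonneg (Int.natCast_nonneg j) as'
        have : (0 : ℤ) < i := by exact_mod_cast hi
        linarith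
      · rw [hl, ha, l1, a1, ls]
        have : (0 : ℤ) < j := by exact_mod_cast hj
        linarith
  exact (Subgroup.mem_normalizer_iff.1 (hle hz) g).1 hg

theorem in5_split {g : GL chevD4.Idx K} (hg : g ∈ uGen chevD4 K In5) :
    ∃ a ∈ RadM K, ∃ c : K, g = a * elX chevD4 K 14 c := by
  induction hg using Subgroup.closure_induction with
  | mem y hy =>
    obtain ⟨r, t, hr, hp, rfl⟩ := hy
    simp only [In5, List.mem_cons, List.not_mem_nil, or_false] at hp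
    rcases hp with rfl | rfl | rfl | rfl
    · exact ⟨_, mem_radM hr (by simp) t, 0, by rw [elX_zero hc K n14, mul_one]⟩
    · exact ⟨_, mem_radM hr (by simp) t, 0, by rw [elX_zero hc K n14, mul_one]⟩
    · exact ⟨_, mem_radM hr (by simp) t, 0, by rw [elX_zero hc K n14, mul_one]⟩
    · exact ⟨1, one_mem _, t, (one_mul _).symm⟩
  | one => exact ⟨1, one_mem _, 0, by rw [elX_zero hc K n14, mul_one]⟩
  | mul y z _ _ hy hz =>
    obtain ⟨a, ha, c, rfl⟩ := hy
    obtain ⟨a', ha', c', rfl⟩ := hz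
    refine ⟨a * (elX chevD4 K 14 c * a' * (elX chevD4 K 14 c)⁻¹),
      mul_mem ha (by rw [elX14_lev]; exact lev_conj_radM _ ha'), c + c', ?_⟩
    rw [← elX_add hc K n14]; group
  | inv y _ hy =>
    obtain ⟨a, ha, c, rfl⟩ := hy
    refine ⟨elX chevD4 K 14 (-c) * a⁻¹ * (elX chevD4 K 14 (-c))⁻¹,
      by rw [elX14_lev]; exact lev_conj_radM _ (inv_mem ha), -c, ?_⟩
    rw [← elX_inv hc K n14]; group

/-- the lower unitriangular parameters -/
def lower (a : F) : GL (Fin 2) F × Kˣ := (SpecialLinearGroup.toGL (img F (false, a)), 1)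

theorem lvt_lower (φ : K ≃+* K) (ι : F →+* K) (a : F) :
    lvt φ ι (lower (K := K) a) = elX chevD4 K 9 (ι a) := by
  rw [lower, lvt_sl, map_img, phi14_false]

theorem one_pair : (G2Square.diag2 (1 : Fˣ) 1, (1 : Kˣ)) = 1 := by
  refine Prod.ext (Units.ext ?_) rfl
  ext i j
  fin_cases i <;> fin_cases j <;> simp [G2Square.diag2]

theorem hits_n2 (h : Fld φ ι) (u : Kˣ) {E : Fˣ} (hE : ι (E : F) = u * φ u * φ (φ u)) :
    ∃ σ : F, Hits φ ι (n2 K) (D4Square.upper σ * (G2Square.diag2 1 E, u) * (SpecialLinearGroup.toGL jj, 1)) := by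
  set nA := nProd chevD4 K wA with hnA
  set nB := nProd chevD4 K [i1] with hnB
  have hn : n2 K = nA * nB * nA := by rw [n2, nProd_append, nProd_append]
  have hA := cellA h u hE
  have hB := cellA (ι := ι) h 1 (E := 1) (by simp)
  rw [one_pair, map_one, mul_one, Units.val_one, n1, ← hnA] at hB
  rw [n1, ← hnA] at hA
  set X := orbX sym_test φ 18 (-(u : K))
  set a1 := orbX sym_test φ 5 (-(u : K))⁻¹
  set H := lvt φ ι (G2Square.diag2 1 E, u) with hH
  set b1 := orbX sym_test φ 18 (u : K)⁻¹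
  set X1 := orbX sym_test φ 18 (-1 : K)
  set a2 := orbX sym_test φ 5 (-1 : K)⁻¹
  set b2 := orbX sym_test φ 18 (1 : K)⁻¹
  have hY : nB⁻¹ * b1 * nB ∈ uGen chevD4 K In19 :=
    uGen_conj' (P := In18) (fun r hr hp => conj_facts.2.1 ⟨r, hr⟩ hp) (orb18_in φ _)
  have hT : nA⁻¹ * (nB⁻¹ * b1 * nB) * nA ∈ RadP K :=
    inTop_radP (uGen_conj' (fun r hr hp => conj_facts.2.2.1 ⟨r, hr⟩ hp) hY)
  set Z' := H * (nB * X1⁻¹ * nB⁻¹) * H⁻¹ with hZ'
  have hZ0 : nB * X1⁻¹ * nB⁻¹ ∈ uGen chevD4 K In19 :=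
    uGen_conj (P := In18) (fun r hr hp => conj_facts.1 ⟨r, hr⟩ hp) (inv_mem (orb18_in φ _))
  have hZ : Z' ∈ uGen chevD4 K In19 := by
    rw [hZ', hH, ← outTor_trip u hE, outTor, ← map_mul, ← map_mul]
    exact torus_uGen _ hZ0
  have hHG : H ∈ GG φ := lvt_mem h (diag2_Lsub.2 (by rw [Units.val_one, one_mul]; exact hE))
  have hZG : Z' ∈ GG φ := mul_mem (mul_mem hHG (mul_mem (mul_mem (nB_mem φ) (inv_mem (orb18_up h _).2))
    (inv_mem (nB_mem φ)))) (inv_mem hHG)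
  have hwU : Z'⁻¹ * X ∈ Up φ :=
    mul_mem (inv_mem (Subgroup.mem_inf.2 ⟨in19_radP hZ, hZG⟩)) (orb18_up h _)
  have hconj : Z'⁻¹ * a1 * Z' ∈ uGen chevD4 K In5 := by
    have := in19_norm (inv_mem hZ) (orb5_in φ (-(u : K))⁻¹)
    rwa [inv_inv] at this
  obtain ⟨a', ha', c, hc'⟩ := in5_split hconj
  set J := lvt φ ι (SpecialLinearGroup.toGL jj, 1) with hJ
  have hJ' : nB = J := by
    rw [hJ, lvt_sl, hnB, nB_eq]
    congr 1
    ext r s
    fin_cases r <;> fin_cases s <;> simp [coe_jj]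
  obtain ⟨M, hM⟩ : ∃ M, lev M = elX chevD4 K 14 c * H * J :=
    ⟨_, by rw [elX14_lev, hH, hJ, lvt_apply, lvt_apply, ← map_mul, ← map_mul]⟩
  obtain ⟨M', hM'⟩ : ∃ M, lev M = elX chevD4 K 14 (φ c) * H * J :=
    ⟨_, by rw [elX14_lev, hH, hJ, lvt_apply, lvt_apply, ← map_mul, ← map_mul]⟩
  have e : Z'⁻¹ * X * n2 K =
      a' * (lev M * a2 * (lev M)⁻¹) * lev M * (b2 * (nA⁻¹ * (nB⁻¹ * b1 * nB) * nA)) := by
    calc Z'⁻¹ * X * n2 K = Z'⁻¹ * (X * nA) * nB * nA := by rw [hn]; group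
      _ = Z'⁻¹ * a1 * H * nB * (X1⁻¹ * (X1 * nA)) * (nA⁻¹ * (nB⁻¹ * b1 * nB) * nA) := by rw [hA]; group
      _ = Z'⁻¹ * a1 * H * nB * X1⁻¹ * a2 * b2 * (nA⁻¹ * (nB⁻¹ * b1 * nB) * nA) := by rw [hB]; group
      _ = (Z'⁻¹ * a1 * Z') * H * nB * a2 * b2 * (nA⁻¹ * (nB⁻¹ * b1 * nB) * nA) := by rw [hZ']; group
      _ = a' * (elX chevD4 K 14 c * H * J) * a2 * b2 * (nA⁻¹ * (nB⁻¹ * b1 * nB) * nA) := by
        rw [hc', hJ']; group
      _ = _ := by rw [← hM]; group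
  have ha : a' * (lev M * a2 * (lev M)⁻¹) ∈ RadM K := mul_mem ha' (lev_conj_radM M (orb5_um _))
  have hb : b2 * (nA⁻¹ * (nB⁻¹ * b1 * nB) * nA) ∈ RadP K := mul_mem (orb18_up h _).1 hT
  have hσ : twistSigma sym sym_test φ (lev M) = lev M' := by
    rw [hM, hM', map_mul, map_mul, twistSigma_elX hc sym_test φ n14, img_facts.1, img_facts.2.2.1,
      mem_fixedSub.mp (twistGrp_le_fixed hc sym_test φ hHG),
      mem_fixedSub.mp (twistGrp_le_fixed hc sym_test φ (lvt_mem h (Lsub_sl (φ := φ) (ι := ι) jj)))]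
    simp [hJ]
  have hcG : φ c = c := by
    have h3 := (descend ha hb hσ (e ▸ mul_mem hwU.2 n2_mem)).2.2
    rw [hM, hM'] at h3
    have h4 := mul_right_cancel (mul_right_cancel h3)
    by_contra hne
    refine absurd (elX_root_unique hc (a := 14) (b := 9) (s := φ c - c) n14 (by decide) (sub_ne_zero.2 hne)
      (show elX chevD4 K 14 (φ c - c) = elX chevD4 K 9 0 from ?_)) (by decide)
    rw [sub_eq_add_neg, ← elX_add hc K n14, ← elX_inv hc K n14, h4, mul_inv_cancel, elX_zero hc K (by decide)]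
  obtain ⟨σ, rfl⟩ := h.range c hcG
  refine ⟨σ, mul_mem (mul_mem (upper_Lsub σ) (diag2_Lsub.2 (by rw [Units.val_one, one_mul]; exact hE))) (Lsub_sl jj),
    _, hwU, _, ha, _, hb, ?_⟩
  rw [e, hM, map_mul, map_mul, lvt_upper, ← hH, ← hJ]

theorem comm14 : ∀ r s : Fin chevD4.nroots, r.val ∈ [14, 9] → s.val ∈ [20, 21, 17, 6, 3, 2] →
    s.val ≠ chevD4.neg r.val ∧ chevD4.commTerms r.val s.val = [] := by decide +kernel

theorem n3_in : n3 K ∈ uGen chevD4 K InBotTop := by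
  refine uGen_conj (P := fun r => r ∈ [18, 13, 12, 5, 10, 11]) (fun r hr hp => conj_facts.2.2.2.2 ⟨r, hr⟩ hp) ?_
  rw [wA, nProd_cons, nProd_cons, nProd_cons, nProd_nil, mul_one, simple_vals.1, simple_vals.2.2.1, simple_vals.2.2.2]
  obtain ⟨g0, g1, g2⟩ := negs
  have hx : ∀ r, r < chevD4.nroots → r ∈ [18, 13, 12, 5, 10, 11] → ∀ t,
      elX chevD4 K r t ∈ uGen chevD4 K (fun r => r ∈ [18, 13, 12, 5, 10, 11]) :=
    fun r hr hp t => elX_mem_uGen hr (P := fun r => r ∈ [18, 13, 12, 5, 10, 11]) hp t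
  have hN : ∀ r, r < chevD4.nroots → r ∈ [18, 13, 12, 5, 10, 11] → chevD4.neg r ∈ [18, 13, 12, 5, 10, 11] →
      elN chevD4 K r 1 ∈ uGen chevD4 K (fun r => r ∈ [18, 13, 12, 5, 10, 11]) :=
    fun r hr h1 h2 => mul_mem (mul_mem (hx r hr h1 _) (hx _ (neg_lt hc hr) h2 _)) (hx r hr h1 _)
  exact mul_mem (hN _ (by decide) (by simp) (by simp [g0]))
    (mul_mem (hN _ (by decide) (by simp) (by simp [g1])) (hN _ (by decide) (by simp) (by simp [g2])))

theorem n3_commute (P : SpecialLinearGroup (Fin 2) F) :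
    Commute (lvt φ ι (SpecialLinearGroup.toGL P, 1)) (n3 K) := by
  rw [lvt_sl]
  refine uGen_commute (P := fun r => r ∈ [14, 9]) (Q := InBotTop) (fun r s hr hs h1 h2 => comm14 ⟨r, hr⟩ ⟨s, hs⟩ h1 h2)
    (phi14_le (fun t => elX_mem_uGen n14 (P := fun r => r ∈ [14, 9]) (by simp) t)
      (fun t => elX_mem_uGen (by decide) (P := fun r => r ∈ [14, 9]) (by simp) t) _) n3_in

theorem Hits.conj (h : Fld φ ι) {k : GL (Fin 2) F × Kˣ} (hk : Hits φ ι (n3 K) k)
    (P : SpecialLinearGroup (Fin 2) F) : Hits φ ι (n3 K)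
      ((SpecialLinearGroup.toGL P, 1) * k * (SpecialLinearGroup.toGL P, 1)⁻¹) := by
  obtain ⟨hkL, w, hw, a, ha, b, hb, e⟩ := hk
  set p : GL (Fin 2) F × Kˣ := (SpecialLinearGroup.toGL P, 1)
  have hp : p ∈ Lsub φ ι := Lsub_sl P
  set l := lvt φ ι p
  have hcm : l * n3 K = n3 K * l := (n3_commute P).eq
  refine ⟨mul_mem (mul_mem hp hkL) (inv_mem hp), l * w * l⁻¹, conj_up h hp hw, l * a * l⁻¹,
    lev_conj_radM _ ha, l * b * l⁻¹, lev_conj_radP _ hb, ?_⟩
  rw [map_mul, map_mul, map_inv]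
  calc l * w * l⁻¹ * n3 K = l * w * (l⁻¹ * (n3 K * l)) * l⁻¹ := by group
    _ = l * (w * n3 K) * l⁻¹ := by rw [← hcm]; group
    _ = l * a * l⁻¹ * (l * lvt φ ι k * l⁻¹) * (l * b * l⁻¹) := by rw [e]; group

theorem y_data : sigs chevD4 tb wY 5 = 6 ∧
    (rv chevD4 tb (sigs chevD4 tb wY.reverse 18) i0, rv chevD4 tb (sigs chevD4 tb wY.reverse 18) i1,
      rv chevD4 tb (sigs chevD4 tb wY.reverse 18) i2, rv chevD4 tb (sigs chevD4 tb wY.reverse 18) i3) = (-1, -1, 0, 0) ∧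
    (rv chevD4 tb (sigs chevD4 tb wY.reverse 14) i0, rv chevD4 tb (sigs chevD4 tb wY.reverse 14) i1,
      rv chevD4 tb (sigs chevD4 tb wY.reverse 14) i2, rv chevD4 tb (sigs chevD4 tb wY.reverse 14) i3) = (1, 2, 1, 1) ∧
    (rv chevD4 tb (sigs chevD4 tb wY.reverse 13) i0, rv chevD4 tb (sigs chevD4 tb wY.reverse 13) i1,
      rv chevD4 tb (sigs chevD4 tb wY.reverse 13) i2, rv chevD4 tb (sigs chevD4 tb wY.reverse 13) i3) = (0, -1, -1, 0) ∧
    (rv chevD4 tb (sigs chevD4 tb wY.reverse 12) i0, rv chevD4 tb (sigs chevD4 tb wY.reverse 12) i1,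
      rv chevD4 tb (sigs chevD4 tb wY.reverse 12) i2, rv chevD4 tb (sigs chevD4 tb wY.reverse 12) i3) = (0, -1, 0, -1) := by
  decide +kernel

theorem reflChars_at (L : List (Fin chevD4.rank)) (χ : Fin chevD4.rank → Kˣ) (j : Fin chevD4.rank) :
    reflChars L χ j = chi χ (rv chevD4 tb (sigs chevD4 tb L.reverse (chevD4.simple j.val))) := by
  rw [← zpow_one (reflChars L χ j), ← chi_single (D := chevD4) (reflChars L χ) j 1, ← rv_simple hc j,
    ChevCent.chi_reflChars hc, rv_sigs hc _ (simple_lt hc j.2)]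

theorem diag2_pair (h : Fld φ ι) {u : Kˣ} {E : Fˣ} (hE : ι (E : F) = u * φ u * φ (φ u)) :
    (G2Square.diag2 E E, phiU φ u * phiU φ (phiU φ u)) ∈ Lsub φ ι := by
  rw [diag2_Lsub, map_mul, hE]
  simp only [Units.val_mul, coe_phiU, map_mul, h.cube]
  ring

/-- the cell of the top orbit -/
theorem cellT (h : Fld φ ι) (u : Kˣ) {E : Fˣ} (hE : ι (E : F) = u * φ u * φ (φ u)) :
    ∃ e : K, (e = 1 ∨ e = -1) ∧ ∃ w ∈ Up φ, ∃ b ∈ RadP K, w * n3 K =
      orbX sym_test φ 6 (e * (-(u : K))⁻¹) *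
        lvt φ ι (G2Square.diag2 E E, phiU φ u * phiU φ (phiU φ u)) * b := by
  set y := nProd chevD4 K wY with hy
  obtain ⟨c, hc1, hcx⟩ := nProd_conj_elX hc (F := K) wY (r := 5) (by decide)
  have ha : y * orbX sym_test φ 5 (-(u : K))⁻¹ * y⁻¹ = orbX sym_test φ 6 ((c : K) * (-(u : K))⁻¹) :=
    (fixed_orbX_conj hc sym_test φ (twistGrp_le_fixed hc sym_test φ (wY_mem (φ := φ))) (r := 5) (v := 6)
      (by decide) (by decide) (c := c) (fun t => by rw [hcx, y_data.1]) (isPar3 h orb_data.2.2.1 _)).2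
  have hH : y * lvt φ ι (G2Square.diag2 1 E, u) * y⁻¹ =
      lvt φ ι (G2Square.diag2 E E, phiU φ u * phiU φ (phiU φ u)) := by
    have hm : ∀ l m : Fˣ, GeneralLinearGroup.map ι (G2Square.diag2 l m) =
        G2Square.diag2 (Units.map ι.toMonoidHom l) (Units.map ι.toMonoidHom m) := fun l m => Units.ext (by
      ext i j
      fin_cases i <;> fin_cases j <;> simp [G2Square.diag2])
    rw [lvt_apply, lvt_apply, hm, hm, lev_diag, lev_diag, hy, nProd_conj_torus hc]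
    congr 1
    obtain ⟨-, d0, d1, d2, d3⟩ := y_data
    simp only [Prod.mk.injEq] at d0 d1 d2 d3
    have hu := u.ne_zero
    have hu1 : φ (u : K) ≠ 0 := by simp
    have hu2 : φ (φ (u : K)) ≠ 0 := by simp
    apply chr4_ext <;>
      rw [reflChars_at] <;>
      simp only [simple_vals.1, simple_vals.2.1, simple_vals.2.2.1, simple_vals.2.2.2, chi_four, chr4_0, chr4_1,
        chr4_2, chr4_3, d0.1, d0.2.1, d0.2.2.1, d0.2.2.2, d1.1, d1.2.1, d1.2.2.1, d1.2.2.2, d2.1, d2.2.1, d2.2.2.1,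
        d2.2.2.2, d3.1, d3.2.1, d3.2.2.1, d3.2.2.2, zpow_zero, zpow_one, zpow_ofNat, _root_.zpow_neg] <;>
      (apply Units.ext; simp [trip, coe_phiU, hE, h.cube]; field_simp)
  refine ⟨(c : K), ?_, y * orbX sym_test φ 18 (-(u : K)) * y⁻¹, ?_, y * orbX sym_test φ 18 (u : K)⁻¹ * y⁻¹,
    inTop_radP (uGen_conj (fun r hr hp => conj_facts.2.2.2.1 ⟨r, hr⟩ hp) (orb18_in φ _)), ?_⟩
  · exact hc1
  · exact Subgroup.mem_inf.2 ⟨inTop_radP (uGen_conj (fun r hr hp => conj_facts.2.2.2.1 ⟨r, hr⟩ hp) (orb18_in φ _)),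
      mul_mem (mul_mem wY_mem (orb18_up h _).2) (inv_mem wY_mem)⟩
  · rw [← ha, ← hH]
    calc y * orbX sym_test φ 18 (-(u : K)) * y⁻¹ * n3 K
        = y * (orbX sym_test φ 18 (-(u : K)) * n1 K) * y⁻¹ := by rw [n3, n1, ← hy]; group
      _ = _ := by rw [cellA h u hE]; group

theorem orb6_um (t : K) : orbX sym_test φ 6 t ∈ RadM K := by
  rw [orb6]
  exact mul_mem (mul_mem (mem_radM (by decide) (by simp) _) (mem_radM (by decide) (by simp) _))
    (mem_radM (by decide) (by simp) _)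

theorem hits_n3_square (h : Fld φ ι) (u : Kˣ) {E : Fˣ} (hE : ι (E : F) = u * φ u * φ (φ u)) :
    Hits φ ι (n3 K) (G2Square.diag2 E E, phiU φ u * phiU φ (phiU φ u)) := by
  obtain ⟨e, -, w, hw, b, hb, he⟩ := cellT h u hE
  exact ⟨diag2_pair h hE, w, hw, _, orb6_um _, b, hb, he⟩

theorem orb6_facts : ∀ rs ∈ ([(6, 3), (6, 2)] : List (ℕ × ℕ)),
    rs.1 < chevD4.nroots ∧ rs.2 < chevD4.nroots ∧ rs.2 ≠ chevD4.neg rs.1 ∧
      chevD4.commTerms rs.1 rs.2 = [] := by decide +kernel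

/-- the elements of grade one moved through the opposite top orbit, twisted -/
theorem lead_twisted (φ : K ≃+* K) (v r : K) :
    ∃ m ∈ uGen chevD4 K Deep, orbX sym_test φ 19 v * orbX sym_test φ 6 r =
      m * (elX chevD4 K 5 (-φ r * φ (φ v) - φ (φ r) * φ v) * elX chevD4 K 10 (-φ (φ r) * v - r * φ (φ v)) *
          elX chevD4 K 11 (-φ r * v - r * φ v)) *
        elX chevD4 K 14 (-(r * φ v * φ (φ v)) - v * (φ r * φ (φ v) + φ (φ r) * φ v)) * orbX sym_test φ 19 v := by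
  obtain ⟨m, hm, e⟩ := lead_identity v (-φ v) (-φ (φ v)) (-φ r) (-φ (φ r)) r
  refine ⟨m, hm, ?_⟩
  have hsw : orbX sym_test φ 6 r = elX chevD4 K 3 (-φ r) * elX chevD4 K 2 (-φ (φ r)) * elX chevD4 K 6 r := by
    have c3 := comm_of (K := K) (orb6_facts (6, 3) (by simp)) r (-φ r)
    have c2 := comm_of (K := K) (orb6_facts (6, 2) (by simp)) r (-φ (φ r))
    rw [orb6]
    calc elX chevD4 K 6 r * elX chevD4 K 3 (-φ r) * elX chevD4 K 2 (-φ (φ r))
        = elX chevD4 K 3 (-φ r) * (elX chevD4 K 6 r * elX chevD4 K 2 (-φ (φ r))) := by rw [c3.eq]; group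
      _ = _ := by rw [c2.eq]; group
  rw [hsw, orb19, e]
  congr 2
  · congr 1
    congr 1
    · congr 1 <;> congr 1 <;> ring
    · congr 1; ring
  · congr 1; ring

theorem hits_n3_even (h : Fld φ ι) (h2 : (2 : K) = 0) (u : Kˣ) {E : Fˣ}
    (hE : ι (E : F) = u * φ u * φ (φ u)) :
    ∃ Q : F, Q ≠ 0 ∧
      Hits φ ι (n3 K) (D4Square.upper Q * (G2Square.diag2 E E, phiU φ u * phiU φ (phiU φ u))) := by
  obtain ⟨e, he1, w, hw, b, hb, he⟩ := cellT h u hE
  set r := e * (-(u : K))⁻¹ with hr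
  have hr0 : r ≠ 0 := by rcases he1 with rfl | rfl <;> simp [hr]
  obtain ⟨m, hm, el⟩ := lead_twisted φ r r
  set Qv := -(r * φ r * φ (φ r)) - r * (φ r * φ (φ r) + φ (φ r) * φ r) with hQv
  have hQ0 : Qv = r * φ r * φ (φ r) := by rw [hQv]; linear_combination (-2 * (r * φ r * φ (φ r))) * h2
  obtain ⟨Q, hQ⟩ := h.range Qv (by simp only [hQ0, map_mul, h.cube]; ring)
  have hk5 : -φ r * φ (φ r) - φ (φ r) * φ r = 0 := by linear_combination (-(φ r * φ (φ r))) * h2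
  have hk10 : -φ (φ r) * r - r * φ (φ r) = 0 := by linear_combination (-(r * φ (φ r))) * h2
  have hk11 : -φ r * r - r * φ r = 0 := by linear_combination (-(r * φ r)) * h2
  rw [hk5, hk10, hk11, elX_zero hc K (by decide), elX_zero hc K (by decide), elX_zero hc K (by decide), mul_one,
    mul_one, mul_one, ← hQ] at el
  set k : GL (Fin 2) F × Kˣ := (G2Square.diag2 E E, phiU φ u * phiU φ (phiU φ u))
  have hkG := lvt_mem h (diag2_pair h hE)
  set B := (lvt φ ι k)⁻¹ * orbX sym_test φ 19 r * lvt φ ι k * b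
  have hB : B ∈ RadP K := mul_mem (lev_conj_radP' _ (orb19_up h r).1) hb
  refine ⟨Q, fun e0 => mul_ne_zero (mul_ne_zero hr0 (by simpa using hr0)) (by simpa using hr0)
    (show r * φ r * φ (φ r) = 0 by rw [← hQ0, ← hQ, e0, map_zero]),
    mul_mem (upper_Lsub Q) (diag2_pair h hE), orbX sym_test φ 19 r * w, mul_mem (orb19_up h r) hw,
    m, deep_radM hm, B, hB, ?_⟩
  rw [map_mul, lvt_upper]
  calc orbX sym_test φ 19 r * w * n3 K = orbX sym_test φ 19 r * (w * n3 K) := by group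
    _ = (orbX sym_test φ 19 r * orbX sym_test φ 6 r) * lvt φ ι k * b := by rw [he]; group
    _ = _ := by rw [el]; simp only [B]; group

theorem hits_n3_odd (h : Fld φ ι) (h2 : (2 : K) ≠ 0) {y : K} (hy : φ y ≠ y) (u : Kˣ) {m : Fˣ}
    (hm : ι (m : F) = u * φ u * φ (φ u)) (hm1 : (m : F) ≠ 1) {ε : Fˣ} (hε : (ε : F) * ε = 1) :
    Hits φ ι (n3 K) (G2Square.diag2 ε (ε * m), u) := by
  set z : Kˣ := Units.map ι.toMonoidHom ε with hz
  have hz2 : (z : K) * z = 1 := by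
    show ι (ε : F) * ι (ε : F) = 1
    rw [← map_mul, hε, map_one]
  have hzf : φ (z : K) = z := h.fix _
  have hzE : ι (ε : F) = (z : K) * φ z * φ (φ z) := by
    rw [hzf, hzf, hz2, one_mul]; rfl
  have hz' : phiU φ z * phiU φ (phiU φ z) = 1 := Units.ext (by simp [coe_phiU, hzf, hz2])
  obtain ⟨e, he1, w, hw, b, hb, he⟩ := cellT h z hzE
  rw [hz'] at he
  set r := e * (-(z : K))⁻¹ with hr
  have hr0 : r ≠ 0 := by rcases he1 with rfl | rfl <;> simp [hr]
  have hrf : φ r = r := by rcases he1 with rfl | rfl <;> simp [hr, hzf]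
  -- a point of the quadric with nonzero linear form
  have hne : y - φ y ≠ 0 := sub_ne_zero.2 (Ne.symm hy)
  set ω := y - φ y with hω
  set v := ω⁻¹ with hv
  have hw0 : ω + φ ω + φ (φ ω) = 0 := by simp only [hω, map_sub, h.cube]; ring
  obtain ⟨m0, hm0, el⟩ := lead_twisted φ v r
  set k0 := -φ r * φ (φ v) - φ (φ r) * φ v with hk0
  have hk1 : -φ (φ r) * v - r * φ (φ v) = φ k0 := by simp only [hk0, map_sub, map_mul, map_neg, h.cube]
  have hk2 : -φ r * v - r * φ v = φ (φ k0) := by simp only [hk0, map_sub, map_mul, map_neg, h.cube]; ring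
  have hQ : -(r * φ v * φ (φ v)) - v * (φ r * φ (φ v) + φ (φ r) * φ v) = 0 := by
    have n1 : φ ω ≠ 0 := by simpa using hne
    have n2 : φ (φ ω) ≠ 0 := by simpa using hne
    simp only [hrf, hv, map_inv₀]
    field_simp
    linear_combination (-r) * hw0
  have hk0ne : k0 ≠ 0 := by
    rw [hk0]
    simp only [hrf]
    intro e0
    have e0' : φ v + φ (φ v) = 0 :=
      (mul_eq_zero.1 (show r * (φ v + φ (φ v)) = 0 by linear_combination -e0)).resolve_left hr0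
    have e1 := congrArg φ e0'
    have e2 := congrArg φ e1
    simp only [map_add, map_zero, h.cube] at e1 e2
    have e3 : (2 : K) * v = 0 := by linear_combination e1 + e2 - e0'
    exact inv_ne_zero hne ((mul_eq_zero.1 e3).resolve_left h2)
  rw [hk1, hk2, hQ, elX_zero hc K n14, mul_one] at el
  set s0 := ((u : K) - 1) / k0 with hs0
  set μ := trip φ u with hμ
  have m0' : (μ 0 : K) = 1 + s0 * k0 := by
    show (u : K) = _
    rw [hs0, div_mul_cancel₀ _ hk0ne]; ring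
  have m1' : (μ 1 : K) = 1 + φ s0 * φ k0 := by
    show φ (u : K) = _
    rw [← map_mul, hs0, div_mul_cancel₀ _ hk0ne, map_sub, map_one]; ring
  have m2' : (μ 2 : K) = 1 + φ (φ s0) * φ (φ k0) := by
    show φ (φ (u : K)) = _
    rw [← map_mul, ← map_mul, hs0, div_mul_cancel₀ _ hk0ne, map_sub, map_sub, map_one, map_one]; ring
  have hsw := swap3 μ m0' m1' m2'
  set N' := elX chevD4 K 5 (k0 / μ 0) * elX chevD4 K 10 (φ k0 / μ 1) * elX chevD4 K 11 (φ (φ k0) / μ 2)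
  set X' := elX chevD4 K 18 (s0 / μ 0) * elX chevD4 K 13 (φ s0 / μ 1) * elX chevD4 K 12 (φ (φ s0) / μ 2)
  have hX' : X' ∈ RadP K := triple_radP _ _ _ (by simp) (by decide) _ _ _
  have hN' : N' ∈ RadM K :=
    mul_mem (mul_mem (mem_radM (by decide) (by simp) _) (mem_radM (by decide) (by simp) _))
      (mem_radM (by decide) (by simp) _)
  set W := orbX sym_test φ 18 s0 with hW
  have hconj : W * m0 * W⁻¹ ∈ uGen chevD4 K Negb := by
    rw [hW, orb18, show elX chevD4 K 18 s0 * elX chevD4 K 13 (φ s0) * elX chevD4 K 12 (φ (φ s0)) * m0 *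
      (elX chevD4 K 18 s0 * elX chevD4 K 13 (φ s0) * elX chevD4 K 12 (φ (φ s0)))⁻¹ =
      elX chevD4 K 18 s0 * (elX chevD4 K 13 (φ s0) * (elX chevD4 K 12 (φ (φ s0)) * m0 *
        (elX chevD4 K 12 (φ (φ s0)))⁻¹) * (elX chevD4 K 13 (φ s0))⁻¹) * (elX chevD4 K 18 s0)⁻¹ by group]
    exact negb_conj (by decide) (by simp) _
      (negb_conj (by decide) (by simp) _ (negb_conj (by decide) (by simp) _ (deep_negb hm0)))
  obtain ⟨a, ha, c, hac⟩ := negb_split hconj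
  set kμ : GL (Fin 2) F × Kˣ := (G2Square.diag2 1 m, u) with hkμ
  set kH : GL (Fin 2) F × Kˣ := (G2Square.diag2 ε ε, 1) with hkH
  have hLμ : kμ ∈ Lsub φ ι := diag2_Lsub.2 (by rw [Units.val_one, one_mul]; exact hm)
  have hLH : kH ∈ Lsub φ ι := diag2_Lsub.2 (by rw [hε]; simp)
  set B := (lvt φ ι kH)⁻¹ * (X' * orbX sym_test φ 19 v) * lvt φ ι kH * b with hBdef
  have hB : B ∈ RadP K := mul_mem (lev_conj_radP' _ (mul_mem hX' (orb19_up h v).1)) hb
  set A := a * (elX chevD4 K 9 c * N' * (elX chevD4 K 9 c)⁻¹)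
  have hA : A ∈ RadM K := mul_mem ha (by rw [elX9_lev]; exact lev_conj_radM _ hN')
  obtain ⟨M, hM⟩ : ∃ M, lev M = elX chevD4 K 9 c * lvt φ ι (kμ * kH) :=
    ⟨_, by rw [elX9_lev, lvt, MonoidHom.comp_apply, ← map_mul]⟩
  obtain ⟨M', hM'⟩ : ∃ M, lev M = elX chevD4 K 9 (φ c) * lvt φ ι (kμ * kH) :=
    ⟨_, by rw [elX9_lev, lvt, MonoidHom.comp_apply, ← map_mul]⟩
  have hwU : W * orbX sym_test φ 19 v * w ∈ Up φ := mul_mem (mul_mem (orb18_up h _) (orb19_up h v)) hw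
  have eq : W * orbX sym_test φ 19 v * w * n3 K = A * lev M * B := by
    calc W * orbX sym_test φ 19 v * w * n3 K = W * orbX sym_test φ 19 v * (w * n3 K) := by group
      _ = W * (orbX sym_test φ 19 v * orbX sym_test φ 6 r) * lvt φ ι kH * b := by rw [he]; group
      _ = (W * m0 * W⁻¹) * (W * (elX chevD4 K 5 k0 * elX chevD4 K 10 (φ k0) * elX chevD4 K 11 (φ (φ k0)))) *
          orbX sym_test φ 19 v * lvt φ ι kH * b := by rw [el]; group
      _ = a * elX chevD4 K 9 c * (N' * outTor μ * X') * orbX sym_test φ 19 v * lvt φ ι kH * b := by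
        rw [hac, hW, orb18, hsw]
      _ = _ := by
        rw [hM, hμ, outTor_trip u hm, map_mul]
        simp only [A, B, kμ]; group
  have hkG := lvt_mem h (mul_mem hLμ hLH)
  have hσ : twistSigma sym sym_test φ (lev M) = lev M' := by
    rw [hM, hM', map_mul, twistSigma_elX hc sym_test φ (r := 9) (by decide), img_facts.2.1, img_facts.2.2.2.1,
      mem_fixedSub.mp (twistGrp_le_fixed hc sym_test φ hkG)]
    simp
  have hcc : φ c = c := by
    have h3 := (descend hA hB hσ (eq ▸ mul_mem hwU.2 n3_mem)).2.2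
    rw [hM, hM'] at h3
    have h4 := mul_right_cancel h3
    by_contra hne
    refine absurd (elX_root_unique hc (a := 9) (b := 14) (s := φ c - c) (by decide) n14 (sub_ne_zero.2 hne)
      (show elX chevD4 K 9 (φ c - c) = elX chevD4 K 14 0 from ?_)) (by decide)
    rw [sub_eq_add_neg, ← elX_add hc K (by decide), ← elX_inv hc K (by decide), h4, mul_inv_cancel,
      elX_zero hc K n14]
  obtain ⟨c', rfl⟩ := h.range c hcc
  have hhit : Hits φ ι (n3 K) (lower c' * (kμ * kH)) := by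
    refine ⟨mul_mem (Lsub_sl _) (mul_mem hLμ hLH), _, hwU, A, hA, B, hB, ?_⟩
    rw [eq, hM, ← lvt_lower φ ι c', ← map_mul]
  set P : SpecialLinearGroup (Fin 2) F := img F (false, c' / (1 - m)) with hP
  have hconjP := hhit.conj h P⁻¹
  convert hconjP using 1
  have hm' : (1 : F) - m ≠ 0 := sub_ne_zero.2 (Ne.symm hm1)
  have hrel : (SpecialLinearGroup.toGL P, (1 : Kˣ)) * (G2Square.diag2 ε (ε * m), u) =
      lower c' * (kμ * kH) * (SpecialLinearGroup.toGL P, 1) := by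
    refine Prod.ext (Units.ext ?_) (by simp [lower, kμ, kH])
    ext i j
    fin_cases i <;> fin_cases j <;>
      simp [hP, lower, kμ, kH, G2Square.diag2, Matrix.mul_apply, Fin.sum_univ_two, coe_img,
        G2Square.coe_toGL'] <;> field_simp <;> ring
  rw [map_inv, show ((SpecialLinearGroup.toGL P)⁻¹, (1 : Kˣ)) = (SpecialLinearGroup.toGL P, (1 : Kˣ))⁻¹ from
    Prod.ext rfl inv_one.symm, inv_inv, mul_assoc, ← hrel, inv_mul_cancel_left]

end twisted

end CfsgLib.D4Square
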