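import Cfsg.Agent.Lib.D4Square.Twist
import Cfsg.Agent.Lib.Chev.ParabolicCard

/-!
Double cosets of the parabolic subgroup of the twisted group.
-/

set_option autoImplicit false
set_option linter.unusedSectionVars false

namespace CfsgLib.D4Square

open Cfsg.Lie CfsgLib.Chev CfsgLib.ChevField CfsgLib.G2Invol CfsgLib.ChevSL2 CfsgLib.SteinbergTwo
open Matrix CfsgLib.Twisted
open CfsgLib.Twisted.D4 (tb comm_one sym sym_test sym_nodeTest orbit_ok sym_bnTest)

variable {K : Type*} [Field K] [Fintype K] {F : Type*} [Field F] {φ : K ≃+* K} {ι : F →+* K}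

/-- the orbit of roots of the highest short root -/
def IsTop (r : ℕ) : Prop := r = 20 ∨ r = 21 ∨ r = 17

instance : DecidablePred IsTop := fun r => by unfold IsTop; infer_instance

theorem top_facts : sym.img 20 = 21 ∧ sym.img 21 = 17 ∧ sym.img 17 = 20 := by decide +kernel

theorem top_img : ∀ r : Fin chevD4.nroots, IsTop r.val → IsTop (sym.img r.val) := by decide +kernel

/-- `r` is a root that can be completed to the root `j` -/
def Compl (r j : ℕ) : Prop :=
  ∃ s : Fin chevD4.nroots, rv chevD4 tb r + rv chevD4 tb s.val = rv chevD4 tb j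

theorem out_pairs : ∀ r : Fin chevD4.nroots, 0 < lv r.val → IsTop r.val ∨
    ∃ j₁ j₂ : Fin chevD4.nroots, IsTop j₁.val ∧ IsTop j₂.val ∧ j₁ ≠ j₂ ∧
      Compl r.val j₁.val ∧ Compl r.val j₂.val := by
  unfold Compl lv lvf
  decide +kernel

theorem pair_pos : ∀ r j₁ j₂ : Fin chevD4.nroots, IsTop j₁.val → IsTop j₂.val → j₁ ≠ j₂ →
    Compl r.val j₁.val → Compl r.val j₂.val → 12 ≤ r.val := by
  unfold Compl
  decide +kernel

theorem out_lv : ∀ r : Fin chevD4.nroots, 12 ≤ r.val →
    (∃ j : Fin chevD4.rank, (j : ℕ) ≠ 1 ∧ rv chevD4 tb r.val j ≠ 0) → 0 < lv r.val := by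
  unfold lv lvf
  decide +kernel

/-- the root permutation of a fixed monomial element commutes with the symmetry -/
theorem sigs_iter {L : List (Fin chevD4.rank)} {k : GL chevD4.Idx K} (hk : k ∈ chevD4.diagonalSubgroup K)
    (hL : k * nProd chevD4 K L ∈ GG φ) {r : ℕ} (hr : r < chevD4.nroots) (n : ℕ) :
    sigs chevD4 tb L (sym.imgIter n r) = sym.imgIter n (sigs chevD4 tb L r) := by
  have hf := twistGrp_le_fixed hc sym_test φ hL
  induction n with
  | zero => rfl
  | succ n ih =>
    show sigs chevD4 tb L (sym.img _) = sym.img _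
    rw [simple_img_image hc sym_test φ hk hf (TwistSym.imgIter_lt sym_test hr n), ih]

theorem word_fix (h : Fld φ ι) {M : List (Fin chevD4.rank)} {k : GL chevD4.Idx K}
    (hk : k ∈ chevD4.diagonalSubgroup K) (hM : k * nProd chevD4 K M ∈ GG φ)
    (ht : IsTop (sigs chevD4 tb M 20)) : k * nProd chevD4 K M ∈ PP φ ι := by
  have n20 : 20 < chevD4.nroots := by decide
  have himg : ∀ j, IsTop j → IsTop (sigs chevD4 tb M j) := by
    have e := fun n => sigs_iter hk hM n20 n
    have hn : ∀ n, IsTop (sym.imgIter n (sigs chevD4 tb M 20)) := by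
      intro n
      induction n with
      | zero => exact ht
      | succ n ih => exact top_img ⟨_, TwistSym.imgIter_lt sym_test (sigs_lt hc M n20) n⟩ ih
    intro j hj
    obtain ⟨t1, t2, -⟩ := top_facts
    rcases hj with rfl | rfl | rfl
    · exact ht
    · have := e 1; rw [show sym.imgIter 1 20 = 21 from t1] at this; rw [this]; exact hn 1
    · have := e 2
      rw [show sym.imgIter 2 20 = 17 by show sym.img (sym.img 20) = 17; rw [t1, t2]] at this
      rw [this]; exact hn 2
  have hout : ∀ r, r < chevD4.nroots → OutRoot chevD4 {1} r → chevD4.nroots / 2 ≤ sigs chevD4 tb M r := by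
    intro r hr hR
    obtain ⟨hp, j, hj, hne⟩ := (outRoot_iff hc hr).1 hR
    rcases out_pairs ⟨r, hr⟩ (out_lv ⟨r, hr⟩ hp ⟨j, hj, hne⟩) with hT | ⟨j₁, j₂, h1, h2, hne', c1, c2⟩
    · have := himg r hT
      rcases this with e | e | e <;> rw [e] <;> decide
    · have himage : ∀ j : Fin chevD4.nroots, Compl r j.val →
          Compl (sigs chevD4 tb M r) (sigs chevD4 tb M j.val) := by
        rintro j ⟨s, e⟩
        refine ⟨⟨_, sigs_lt hc M s.2⟩, ?_⟩
        have e' := congrArg (refls chevD4 M) e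
        rw [refls_add, ← rv_sigs hc M hr, ← rv_sigs hc M s.2, ← rv_sigs hc M j.2] at e'
        exact e'
      exact pair_pos ⟨_, sigs_lt hc M hr⟩ ⟨_, sigs_lt hc M j₁.2⟩ ⟨_, sigs_lt hc M j₂.2⟩ (himg _ h1)
        (himg _ h2) (fun e => hne' (Fin.ext (sigs_injOn hc M j₁.2 j₂.2 (congrArg Fin.val e))))
        (himage j₁ c1) (himage j₂ c2)
  obtain ⟨M', hM', hMM⟩ := exists_subsystem_word hc (J := {1}) M.length M rfl hout
  have hpar : (∀ r, r < chevD4.nroots → sigs chevD4 tb M' r = r) ∨
      (∀ r, r < chevD4.nroots → sigs chevD4 tb M' r = sigs chevD4 tb [i1] r) := by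
    clear hMM hout
    induction M' with
    | nil => exact Or.inl fun r _ => rfl
    | cons i M' ih =>
      obtain rfl : i = i1 := Fin.ext (hM' i (by simp))
      rcases ih fun j hj => hM' j (by simp [hj]) with e | e
      · exact Or.inr fun r hr => by rw [sigs_cons, e r hr]; rfl
      · exact Or.inl fun r hr => by
          rw [sigs_cons, e r hr]
          exact sig_sig hc i1 hr
  rcases hpar with e | e
  · refine diag_PP h (mul_mem hk ?_) hM
    have := nProd_div_mem hc (F := K) (L := M) (M := []) fun r hr => by rw [hMM r hr, e r hr]; rfl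
    rwa [nProd_nil, inv_one, mul_one] at this
  · have hd := nProd_div_mem hc (F := K) (L := M) (M := [i1]) fun r hr => by rw [hMM r hr, e r hr]
    have hB : nProd chevD4 K [i1] ∈ PP φ ι := by
      refine Subgroup.mem_sup_left ⟨(SpecialLinearGroup.toGL jj, 1), Lsub_sl jj, ?_⟩
      rw [lvt_sl, nB_eq]
      congr 1
      ext r s
      fin_cases r <;> fin_cases s <;> simp [coe_jj]
    have := mul_mem (diag_PP h (mul_mem hk hd)
      (by rw [← mul_assoc]; exact mul_mem hM (inv_mem (nB_mem φ)))) hB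
    rwa [mul_assoc, inv_mul_cancel_right] at this

/-- fixed monomial elements moving the top orbit to the same orbit differ by the parabolic subgroup -/
theorem coset (h : Fld φ ι) {L N : List (Fin chevD4.rank)} {a b : GL chevD4.Idx K}
    (ha : a ∈ chevD4.diagonalSubgroup K) (hb : b ∈ chevD4.diagonalSubgroup K)
    (hL : a * nProd chevD4 K L ∈ GG φ) (hN : b * nProd chevD4 K N ∈ GG φ) {n : ℕ}
    (e : sigs chevD4 tb L 20 = sym.imgIter n (sigs chevD4 tb N 20)) :
    ∃ p ∈ PP φ ι, a * nProd chevD4 K L = b * nProd chevD4 K N * p := by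
  have n20 : 20 < chevD4.nroots := by decide
  refine ⟨(b * nProd chevD4 K N)⁻¹ * (a * nProd chevD4 K L), ?_, by group⟩
  obtain ⟨c, hc', ec⟩ := nProd_inv hc (F := K) N
  have e1 : (b * nProd chevD4 K N)⁻¹ * (a * nProd chevD4 K L) =
      c * (nProd chevD4 K N.reverse * (b⁻¹ * a) * (nProd chevD4 K N.reverse)⁻¹) *
        nProd chevD4 K (N.reverse ++ L) := by
    rw [_root_.mul_inv_rev, ec, nProd_append]; group
  have hd : c * (nProd chevD4 K N.reverse * (b⁻¹ * a) * (nProd chevD4 K N.reverse)⁻¹) ∈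
      chevD4.diagonalSubgroup K :=
    mul_mem hc' (nProd_conj_diagonal hc _ (mul_mem (inv_mem hb) ha))
  rw [e1]
  refine word_fix h hd (by rw [← e1]; exact mul_mem (inv_mem hN) hL) ?_
  rw [sigs_append, e, ← sigs_iter hb hN n20 n, sigs_reverse hc N (TwistSym.imgIter_lt sym_test n20 n)]
  have hn : ∀ n, IsTop (sym.imgIter n 20) := fun n => by
    induction n with
    | zero => exact Or.inl rfl
    | succ n ih => exact top_img ⟨_, TwistSym.imgIter_lt sym_test n20 n⟩ ih
  exact hn n

/-- the word for the conjugating element of the third representative -/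
def wY : List (Fin chevD4.rank) := wA ++ [i1]

/-- the first representative -/
noncomputable def n1 (K : Type*) [Field K] : GL chevD4.Idx K := nProd chevD4 K wA

/-- the second representative -/
noncomputable def n2 (K : Type*) [Field K] : GL chevD4.Idx K := nProd chevD4 K (wA ++ [i1] ++ wA)

/-- the third representative, the reflection in the top orbit -/
noncomputable def n3 (K : Type*) [Field K] : GL chevD4.Idx K :=
  nProd chevD4 K wY * nProd chevD4 K wA * (nProd chevD4 K wY)⁻¹

theorem n1_mem : n1 K ∈ GG φ := nA_mem φ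

theorem wY_mem : nProd chevD4 K wY ∈ GG φ := by
  rw [wY, nProd_append]; exact mul_mem (nA_mem φ) (nB_mem φ)

theorem n2_mem : n2 K ∈ GG φ := by
  rw [n2, nProd_append, nProd_append]
  exact mul_mem (mul_mem (nA_mem φ) (nB_mem φ)) (nA_mem φ)

theorem n3_mem : n3 K ∈ GG φ := mul_mem (mul_mem wY_mem (nA_mem φ)) (inv_mem wY_mem)

theorem n3_word : ∃ d ∈ chevD4.diagonalSubgroup K, n3 K = d * nProd chevD4 K (wY ++ wA ++ wY.reverse) := by
  obtain ⟨c, hc', e⟩ := nProd_inv hc (F := K) wY
  refine ⟨nProd chevD4 K (wY ++ wA) * c * (nProd chevD4 K (wY ++ wA))⁻¹, nProd_conj_diagonal hc _ hc', ?_⟩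
  rw [n3, e, nProd_append (wY ++ wA), nProd_append]; group

theorem orbit_cases : ∀ s : Fin chevD4.nroots, sym.img s.val ≠ s.val → ∃ k : Fin 3,
    s.val = sym.imgIter k.val (sigs chevD4 tb [] 20) ∨
    s.val = sym.imgIter k.val (sigs chevD4 tb wA 20) ∨
    s.val = sym.imgIter k.val (sigs chevD4 tb ([i1] ++ wA) 20) ∨
    s.val = sym.imgIter k.val (sigs chevD4 tb (wA ++ [i1] ++ wA) 20) ∨
    s.val = sym.imgIter k.val (sigs chevD4 tb ([i1] ++ (wA ++ [i1] ++ wA)) 20) ∨
    s.val = sym.imgIter k.val (sigs chevD4 tb (wY ++ wA ++ wY.reverse) 20) := by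
  decide +kernel

/-- every element outside the parabolic subgroup lies in one of three double cosets -/
theorem cases_not_mem (h : Fld φ ι) {g : GL chevD4.Idx K} (hg : g ∈ GG φ) (hP : g ∉ PP φ ι) :
    ∃ p ∈ PP φ ι, ∃ q ∈ PP φ ι, ∃ n, (n = n1 K ∨ n = n2 K ∨ n = n3 K) ∧ g = p * n * q := by
  have hgf := twistGrp_le_fixed hc sym_test φ hg
  obtain ⟨u, hu, k, hk, L, v, hv, hn, rfl⟩ :=
    TwistSub.fixed_bruhat hc comm_one sym_test φ (TwistSub.twistGrp_le_group hc sym_test φ hg) hgf
  have huP := pos_fixed_PP h hu.1 hu.2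
  have hvpos : v ∈ chevD4.posUnipotent K := by rw [posUnipotent_eq hc]; exact uInv_le_pos hc L hv.1
  have hvP := pos_fixed_PP h hvpos hv.2
  have hnG : k * nProd chevD4 K L ∈ GG φ := by
    have := mul_mem (mul_mem (inv_mem (PP_le h huP)) hg) (inv_mem (PP_le h hvP))
    simpa [mul_assoc] using this
  have n20 : 20 < chevD4.nroots := by decide
  have hs : sym.img (sigs chevD4 tb L 20) ≠ sigs chevD4 tb L 20 := by
    intro e
    have h1 := sigs_iter hk hnG n20 1
    change sigs chevD4 tb L (sym.img 20) = sym.img (sigs chevD4 tb L 20) at h1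
    rw [e, top_facts.1] at h1
    exact absurd (sigs_injOn hc L (by decide) n20 h1) (by decide)
  have h1 : (1 : GL chevD4.Idx K) ∈ chevD4.diagonalSubgroup K := one_mem _
  obtain ⟨j, hj⟩ := orbit_cases ⟨_, sigs_lt hc L n20⟩ hs
  have hB : nProd chevD4 K [i1] ∈ PP φ ι := by
    refine Subgroup.mem_sup_left ⟨(SpecialLinearGroup.toGL jj, 1), Lsub_sl jj, ?_⟩
    rw [lvt_sl, nB_eq]
    congr 1
    ext r s
    fin_cases r <;> fin_cases s <;> simp [coe_jj]
  rcases hj with e | e | e | e | e | e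
  · obtain ⟨p, hp, ep⟩ := coset h hk h1 hnG (by rw [nProd_nil, mul_one]; exact one_mem _) e
    rw [nProd_nil, mul_one, one_mul] at ep
    exact absurd (mul_mem (mul_mem huP (ep ▸ hp)) hvP) hP
  · obtain ⟨p, hp, ep⟩ := coset h hk h1 hnG (by rw [one_mul]; exact nA_mem φ) e
    refine ⟨u, huP, p * v, mul_mem hp hvP, n1 K, Or.inl rfl, ?_⟩
    rw [ep, one_mul, n1]; group
  · obtain ⟨p, hp, ep⟩ := coset h hk h1 hnG
      (by rw [one_mul, nProd_append]; exact mul_mem (nB_mem φ) (nA_mem φ)) e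
    refine ⟨u * nProd chevD4 K [i1], mul_mem huP hB, p * v, mul_mem hp hvP, n1 K, Or.inl rfl, ?_⟩
    rw [ep, one_mul, n1, nProd_append]; group
  · obtain ⟨p, hp, ep⟩ := coset h hk h1 hnG (by rw [one_mul]; exact n2_mem) e
    refine ⟨u, huP, p * v, mul_mem hp hvP, n2 K, Or.inr (Or.inl rfl), ?_⟩
    rw [ep, one_mul, n2]; group
  · obtain ⟨p, hp, ep⟩ := coset h hk h1 hnG
      (by rw [one_mul, nProd_append]; exact mul_mem (nB_mem φ) n2_mem) e
    refine ⟨u * nProd chevD4 K [i1], mul_mem huP hB, p * v, mul_mem hp hvP, n2 K, Or.inr (Or.inl rfl), ?_⟩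
    rw [ep, one_mul, n2, nProd_append _ (wA ++ [i1] ++ wA)]; group
  · obtain ⟨d, hd, ed⟩ := n3_word (K := K)
    obtain ⟨p, hp, ep⟩ := coset h hk hd hnG (by rw [← ed]; exact n3_mem) e
    refine ⟨u, huP, p * v, mul_mem hp hvP, n3 K, Or.inr (Or.inr rfl), ?_⟩
    rw [ep, ed]; group

theorem x0_facts : lv 0 < 0 ∧ sym.olen 0 = 1 ∧ (0 : ℕ) ≠ 1 := by
  unfold lv lvf; decide +kernel

/-- some conjugate of a nontrivial element avoids the parabolic subgroup -/
theorem exists_conj_not_mem (h : Fld φ ι) (hs : IsSimpleGroup ↥(GG φ)) {g : ↥(GG φ)} (hne : g ≠ 1) :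
    ∃ v ∈ GG φ, v * (g : GL chevD4.Idx K) * v⁻¹ ∉ PP φ ι := by
  by_contra hall
  push Not at hall
  have hle : Subgroup.normalClosure {g} ≤ (PP φ ι).subgroupOf (GG φ) := by
    rw [Subgroup.normalClosure, Subgroup.closure_le]
    intro x hx
    obtain ⟨a, ha, hc'⟩ := Group.mem_conjugatesOfSet_iff.1 hx
    rw [Set.mem_singleton_iff] at ha
    subst ha
    obtain ⟨v, rfl⟩ := isConj_iff.1 hc'
    exact hall v v.2
  rcases hs.eq_bot_or_eq_top_of_normal _ (Subgroup.normalClosure_normal (s := {g})) with e | e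
  · exact hne (Subgroup.mem_bot.1 (e ▸ Subgroup.subset_normalClosure rfl))
  · obtain ⟨hneg, ho, hne0⟩ := x0_facts
    have hG : elX chevD4 K 0 (1 : K) ∈ GG φ := by
      have := orbX_mem hc sym_test φ sym_nodeTest (r := 0) (by decide) (isPar_one φ 0)
      rwa [orbX, ho, orbProd_one] at this
    have hmem : elX chevD4 K 0 (1 : K) ∈ PP φ ι :=
      hle (show (⟨_, hG⟩ : ↥(GG φ)) ∈ _ by rw [e]; exact Subgroup.mem_top _)
    have hm : elX chevD4 K 0 (1 : K) ∈ RadM K := elX_mem_uGen (by decide) (P := Uneg) hneg _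
    obtain ⟨k, hk, b, hb, eb⟩ := (mem_PP h).1 hmem
    rw [eb, lvt_apply φ ι k.1 k.2] at hm
    have h0 := radM_inf hb.1 hm
    rw [← lvt_apply φ ι k.1 k.2, ← eb] at h0
    exact hne0 (elX_root_unique hc (a := 0) (b := 1) (by decide) (by decide) one_ne_zero
      (h0.trans (elX_zero hc K (by decide)).symm))

end CfsgLib.D4Square
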