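import Cfsg.Agent.Lib.G2Square.Levi
import Cfsg.Agent.Lib.Twisted.D4U

/-!
The Levi subgroup of the parabolic subgroup of D4 attached to the central node, over any field, and its
elements centralising no radical element.
-/

set_option autoImplicit false
set_option linter.unusedSectionVars false

namespace CfsgLib.D4Square

open Cfsg.Lie CfsgLib.Chev CfsgLib.ChevField CfsgLib.G2Invol CfsgLib.ChevSL2 CfsgLib.SteinbergTwo
open Matrix
open CfsgLib.Twisted.D4 (tb comm_one)

variable {E : Type*} [Field E]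

theorem hc : Checked chevD4 tb := CfsgLib.Chev.D4.checked

abbrev i0 : Fin chevD4.rank := ⟨0, by decide⟩
abbrev i1 : Fin chevD4.rank := ⟨1, by decide⟩
abbrev i2 : Fin chevD4.rank := ⟨2, by decide⟩
abbrev i3 : Fin chevD4.rank := ⟨3, by decide⟩

theorem fin4 : ∀ j : Fin chevD4.rank, j = i0 ∨ j = i1 ∨ j = i2 ∨ j = i3 := by decide +kernel

theorem n14 : 14 < chevD4.nroots := by decide

theorem neg14 : chevD4.neg 14 = 9 := by decide +kernel

theorem simple_vals : chevD4.simple i0.val = 18 ∧ chevD4.simple i1.val = 14 ∧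
    chevD4.simple i2.val = 13 ∧ chevD4.simple i3.val = 12 := by decide +kernel

theorem rv14 : rv chevD4 tb 14 i0 = 0 ∧ rv chevD4 tb 14 i1 = 1 ∧ rv chevD4 tb 14 i2 = 0 ∧
    rv chevD4 tb 14 i3 = 0 := by decide +kernel

/-- the grading by the coefficients of the three outer nodes -/
def lvf (v : Fin chevD4.rank → ℤ) : ℤ := v i0 + v i2 + v i3

theorem lvf_add (v w : Fin chevD4.rank → ℤ) : lvf (v + w) = lvf v + lvf w := by
  simp [lvf]; ring

theorem lvf_smul (c : ℤ) (v : Fin chevD4.rank → ℤ) : lvf (c • v) = c * lvf v := by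
  simp [lvf]; ring

/-- the grade of a root -/
noncomputable def lv (r : ℕ) : ℤ := lvf (rv chevD4 tb r)

/-- positive grade -/
def Upos (r : ℕ) : Prop := 0 < lv r

/-- negative grade -/
def Uneg (r : ℕ) : Prop := lv r < 0

/-- the unipotent radical over the field -/
def RadP (E : Type*) [Field E] : Subgroup (GL chevD4.Idx E) := uGen chevD4 E Upos

/-- the opposite radical over the field -/
def RadM (E : Type*) [Field E] : Subgroup (GL chevD4.Idx E) := uGen chevD4 E Uneg

/-- the SL(2) of the central node -/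
noncomputable def phi14 : SpecialLinearGroup (Fin 2) E →* GL chevD4.Idx E :=
  Classical.choose (exists_hom hc n14)

theorem phi14_img (b : Bool) (t : E) : phi14 (img E (b, t)) = rootPair chevD4 E 14 b t :=
  (Classical.choose_spec (exists_hom hc n14)).2 b t

theorem phi14_true (t : E) : phi14 (img E (true, t)) = elX chevD4 E 14 t := by
  rw [phi14_img]; rfl

theorem phi14_false (t : E) : phi14 (img E (false, t)) = elX chevD4 E 9 t := by
  rw [phi14_img, rootPair, if_neg Bool.false_ne_true, neg14]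

theorem phi14_le {H : Subgroup (GL chevD4.Idx E)} (h14 : ∀ t, elX chevD4 E 14 t ∈ H)
    (h9 : ∀ t, elX chevD4 E 9 t ∈ H) (A : SpecialLinearGroup (Fin 2) E) : phi14 A ∈ H := by
  have h : (⊤ : Subgroup (SpecialLinearGroup (Fin 2) E)) ≤ H.comap phi14 := by
    rw [← closure_img E, Subgroup.closure_le]
    rintro _ ⟨b, t, rfl⟩
    rw [SetLike.mem_coe, Subgroup.mem_comap]
    cases b
    · rw [phi14_false]; exact h9 t
    · rw [phi14_true]; exact h14 t
  exact h (Subgroup.mem_top A)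

/-- a character by its four values -/
def chr4 (a b c d : Eˣ) : Fin chevD4.rank → Eˣ := fun j =>
  if j = i0 then a else if j = i1 then b else if j = i2 then c else d

theorem chr4_0 (a b c d : Eˣ) : chr4 a b c d i0 = a := by simp [chr4]
theorem chr4_1 (a b c d : Eˣ) : chr4 a b c d i1 = b := by simp [chr4, i0, i1]
theorem chr4_2 (a b c d : Eˣ) : chr4 a b c d i2 = c := by simp [chr4, i0, i1, i2]
theorem chr4_3 (a b c d : Eˣ) : chr4 a b c d i3 = d := by simp [chr4, i0, i1, i2, i3]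

theorem chr4_ext {χ : Fin chevD4.rank → Eˣ} {a b c d : Eˣ} (h0 : χ i0 = a) (h1 : χ i1 = b)
    (h2 : χ i2 = c) (h3 : χ i3 = d) : χ = chr4 a b c d := by
  funext j
  rcases fin4 j with rfl | rfl | rfl | rfl
  · rw [h0, chr4_0]
  · rw [h1, chr4_1]
  · rw [h2, chr4_2]
  · rw [h3, chr4_3]

theorem chi_four (χ : Fin chevD4.rank → Eˣ) (v : Fin chevD4.rank → ℤ) :
    chi χ v = χ i0 ^ v i0 * χ i1 ^ v i1 * χ i2 ^ v i2 * χ i3 ^ v i3 := by
  rw [chi]
  exact Fin.prod_univ_four _

/-- the torus character of a determinant and three outer parameters -/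
def dchr (d : Eˣ) (u : Fin 3 → Eˣ) : Fin chevD4.rank → Eˣ :=
  chr4 (u 0 ^ 2 / d) d (u 1 ^ 2 / d) (u 2 ^ 2 / d)

theorem dchr_mul (d d' : Eˣ) (u u' : Fin 3 → Eˣ) : dchr (d * d') (u * u') = dchr d u * dchr d' u' := by
  symm
  apply chr4_ext <;>
    simp only [Pi.mul_apply, dchr, chr4_0, chr4_1, chr4_2, chr4_3, mul_pow, mul_div_mul_comm]

theorem dchr_one : dchr (1 : Eˣ) 1 = 1 := by
  symm
  apply chr4_ext <;> simp

theorem chi_dchr14 (d : Eˣ) (u : Fin 3 → Eˣ) : chi (dchr d u) (rv chevD4 tb 14) = d := by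
  obtain ⟨h0, h1, h2, h3⟩ := rv14
  rw [chi_four, h0, h1, h2, h3]
  simp [dchr, chr4_1]

theorem phi_swap (χ : Fin chevD4.rank → Eˣ) (A : SpecialLinearGroup (Fin 2) E) :
    phi14 A * torus chevD4 tb E χ =
      torus chevD4 tb E χ * phi14 (dtwist (chi χ (rv chevD4 tb 14))⁻¹ A) := by
  have h := hom_dtwist hc n14 phi14 phi14_img χ (dtwist (chi χ (rv chevD4 tb 14))⁻¹ A)
  have e : dtwist (chi χ (rv chevD4 tb 14)) (dtwist (chi χ (rv chevD4 tb 14))⁻¹ A) = A := by
    ext r s
    fin_cases r <;> fin_cases s <;> simp [coe_dtwist]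
  rw [e] at h
  rw [← h, inv_mul_cancel_right]

/-- the Levi map on GL(2) and the outer parameters -/
noncomputable def lev : GL (Fin 2) E × (Fin 3 → Eˣ) →* GL chevD4.Idx E where
  toFun M := torus chevD4 tb E (dchr (GeneralLinearGroup.det M.1) M.2) * phi14 (G2Square.slPart M.1)
  map_one' := by
    have e : G2Square.slPart (1 : GL (Fin 2) E) = 1 := by
      apply Subtype.ext
      rw [G2Square.coe_slPart, map_one]
      ext i j
      fin_cases i <;> fin_cases j <;> simp
    rw [Prod.fst_one, Prod.snd_one, e, map_one, map_one, dchr_one, map_one, one_mul]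
  map_mul' M N := by
    rw [Prod.fst_mul, Prod.snd_mul, G2Square.slPart_mul, map_mul phi14, map_mul GeneralLinearGroup.det, dchr_mul,
      map_mul (torus chevD4 tb E)]
    have h := phi_swap (dchr (GeneralLinearGroup.det N.1) N.2) (G2Square.slPart M.1)
    rw [chi_dchr14] at h
    simp only [mul_assoc]
    congr 1
    rw [← mul_assoc, ← h, mul_assoc]

theorem lev_apply (A : GL (Fin 2) E) (u : Fin 3 → Eˣ) :
    lev (A, u) = torus chevD4 tb E (dchr (GeneralLinearGroup.det A) u) * phi14 (G2Square.slPart A) := rfl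

theorem lev_sl (A : SpecialLinearGroup (Fin 2) E) : lev (SpecialLinearGroup.toGL A, 1) = phi14 A := by
  have hd : GeneralLinearGroup.det (SpecialLinearGroup.toGL A) = 1 := Units.ext A.2
  have e : G2Square.slPart (SpecialLinearGroup.toGL A) = A := by
    apply Subtype.ext
    rw [G2Square.coe_slPart, hd]
    ext i j
    fin_cases i <;> fin_cases j <;> simp
  rw [lev_apply, e, hd, dchr_one, map_one, one_mul]

theorem cartan14 : ((List.finRange chevD4.rank).map fun j =>
    (∑ k : Fin chevD4.rank, cv tb 14 k * cm chevD4 k j)) = [-1, 2, -1, -1] := by decide +kernel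

theorem cartan14' : (∑ k : Fin chevD4.rank, cv tb 14 k * cm chevD4 k i0) = -1 ∧
    (∑ k : Fin chevD4.rank, cv tb 14 k * cm chevD4 k i1) = 2 ∧
    (∑ k : Fin chevD4.rank, cv tb 14 k * cm chevD4 k i2) = -1 ∧
    (∑ k : Fin chevD4.rank, cv tb 14 k * cm chevD4 k i3) = -1 := by decide +kernel

theorem det_diag2 (l m : Eˣ) : GeneralLinearGroup.det (G2Square.diag2 l m) = l * m := Units.ext (by
  rw [GeneralLinearGroup.val_det_apply, G2Square.coe_diag2, det_fin_two_of, Units.val_mul]; ring)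

theorem lev_diag (l m : Eˣ) (u : Fin 3 → Eˣ) :
    lev (G2Square.diag2 l m, u) =
      torus chevD4 tb E (chr4 (u 0 ^ 2 / l) (l / m) (u 1 ^ 2 / l) (u 2 ^ 2 / l)) := by
  have hd : GeneralLinearGroup.det (G2Square.diag2 l m) = l * m := det_diag2 l m
  have e : G2Square.slPart (G2Square.diag2 l m) = dd m⁻¹ := by
    apply Subtype.ext
    rw [G2Square.coe_slPart, hd, coe_dd]
    ext i j
    fin_cases i <;> fin_cases j <;> simp [G2Square.diag2]
  obtain ⟨c0, c1, c2, c3⟩ := cartan14'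
  rw [lev_apply, e, hom_dd hc n14 phi14 phi14_img, hd, ← map_mul]
  congr 1
  refine chr4_ext ?_ ?_ ?_ ?_ <;>
    simp only [Pi.mul_apply, corChar, dchr, chr4_0, chr4_1, chr4_2, chr4_3, c0, c1, c2, c3,
      _root_.inv_zpow', neg_neg, zpow_one, zpow_ofNat, _root_.zpow_neg, inv_pow] <;>
    (apply Units.ext; push_cast; field_simp)

theorem glMap_lev {E' : Type*} [Field E'] (ι : E →+* E') (A : GL (Fin 2) E) (u : Fin 3 → Eˣ) :
    glMap chevD4 ι (lev (A, u)) =
      lev (GeneralLinearGroup.map ι A, fun j => Units.map ι.toMonoidHom (u j)) := by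
  have hd : GeneralLinearGroup.det (GeneralLinearGroup.map ι A) =
      Units.map ι.toMonoidHom (GeneralLinearGroup.det A) :=
    Units.ext (by simp [GeneralLinearGroup.val_det_apply, RingHom.map_det, RingHom.mapMatrix_apply])
  have e : G2Square.slPart (GeneralLinearGroup.map ι A) = SpecialLinearGroup.map ι (G2Square.slPart A) := by
    apply Subtype.ext
    rw [G2Square.coe_slPart, hd]
    ext i j
    fin_cases i <;> fin_cases j <;> simp [G2Square.coe_slPart, GeneralLinearGroup.map_apply]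
  have hphi : ∀ B : SpecialLinearGroup (Fin 2) E,
      glMap chevD4 ι (phi14 B) = phi14 (SpecialLinearGroup.map ι B) := by
    intro B
    have h : (glMap chevD4 ι).comp phi14 = (phi14 (E := E')).comp (SpecialLinearGroup.map ι) := by
      refine MonoidHom.eq_of_eqOn_dense (closure_img E) ?_
      rintro _ ⟨b, t, rfl⟩
      have e : SpecialLinearGroup.map ι (img E (b, t)) = img E' (b, ι t) := by
        ext r s
        cases b <;> fin_cases r <;> fin_cases s <;> simp [coe_img]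
      cases b
      · simp only [MonoidHom.comp_apply, e, phi14_false]
        exact ChevField.glMap_elX hc ι (by decide) t
      · simp only [MonoidHom.comp_apply, e, phi14_true]
        exact ChevField.glMap_elX hc ι n14 t
    exact DFunLike.congr_fun h B
  rw [lev_apply, lev_apply, map_mul, hphi, e, hd, ChevField.glMap_torus]
  congr 2
  apply chr4_ext <;> simp [dchr, chr4_0, chr4_1, chr4_2, chr4_3]

theorem lv_levi : lv 14 = 0 ∧ lv 9 = 0 := by unfold lv lvf; decide +kernel

/-- the Levi subgroup normalises the group of a set of roots stable under the grade -/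
theorem lev_normalizes_gen {P : ℕ → Prop} (hP0 : ∀ s, P s → lv s ≠ 0)
    (hP : ∀ s v, ∀ j : ℕ, 0 < j → P s → lv v = j * lv s → P v) (M : GL (Fin 2) E × (Fin 3 → Eˣ)) :
    lev M ∈ Subgroup.normalizer (uGen chevD4 E P : Set (GL chevD4.Idx E)) := by
  have hx : ∀ r, r < chevD4.nroots → lv r = 0 → ∀ t : E,
      elX chevD4 E r t ∈ Subgroup.normalizer (uGen chevD4 E P : Set (GL chevD4.Idx E)) := by
    intro r hr hr0 t
    refine elX_mem_normalizer hc comm_one hr (fun s _ hs _ => ⟨fun e => hP0 s hs ?_, fun v hv => ?_⟩) t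
    · rw [e, lv, rv_neg hc hr, show -rv chevD4 tb r = (-1 : ℤ) • rv chevD4 tb r by simp, lvf_smul, ← lv,
        hr0, mul_zero]
    · obtain ⟨-, i, j, -, hj, e⟩ := hv
      refine hP s v j hj hs ?_
      rw [lv, e, lvf_add, lvf_smul, lvf_smul, ← lv, ← lv, hr0, mul_zero, zero_add]
  obtain ⟨A, u⟩ := M
  rw [lev_apply]
  refine mul_mem ?_ (phi14_le (fun t => hx _ n14 lv_levi.1 t) (fun t => hx _ (by decide) lv_levi.2 t) _)
  rw [Subgroup.mem_normalizer_iff]
  set τ := torus chevD4 tb E (dchr (GeneralLinearGroup.det A) u) with hτ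
  have key : ∀ χ : Fin chevD4.rank → Eˣ, ∀ g ∈ uGen chevD4 E P,
      torus chevD4 tb E χ * g * (torus chevD4 tb E χ)⁻¹ ∈ uGen chevD4 E P := by
    intro χ g hg
    induction hg using Subgroup.closure_induction with
    | mem x hx =>
      obtain ⟨r, t, hr, hP', rfl⟩ := hx
      rw [torus_conj_elX hc χ hr]
      exact elX_mem_uGen hr hP' _
    | one => simp
    | mul x y _ _ hx hy =>
      rw [show ∀ a : GL chevD4.Idx E, a * (x * y) * a⁻¹ = a * x * a⁻¹ * (a * y * a⁻¹) from fun a => by group]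
      exact mul_mem hx hy
    | inv x _ hx =>
      rw [show ∀ a : GL chevD4.Idx E, a * x⁻¹ * a⁻¹ = (a * x * a⁻¹)⁻¹ from fun a => by group]
      exact inv_mem hx
  intro g
  refine ⟨key _ g, fun hg => ?_⟩
  have := key (dchr (GeneralLinearGroup.det A) u)⁻¹ _ hg
  rw [map_inv, ← hτ] at this
  simpa [mul_assoc] using this

theorem lev_conj_radP (M : GL (Fin 2) E × (Fin 3 → Eˣ)) {g : GL chevD4.Idx E} (hg : g ∈ RadP E) :
    lev M * g * (lev M)⁻¹ ∈ RadP E := by
  refine (Subgroup.mem_normalizer_iff.1 (lev_normalizes_gen (fun s h e => ?_)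
    (fun s v j hj h e => ?_) M) g).1 hg
  · rw [Upos, e] at h; exact lt_irrefl _ h
  · show 0 < lv v; rw [e]; exact mul_pos (by exact_mod_cast hj) h

theorem lev_conj_radM (M : GL (Fin 2) E × (Fin 3 → Eˣ)) {g : GL chevD4.Idx E} (hg : g ∈ RadM E) :
    lev M * g * (lev M)⁻¹ ∈ RadM E := by
  refine (Subgroup.mem_normalizer_iff.1 (lev_normalizes_gen (fun s h e => ?_)
    (fun s v j hj h e => ?_) M) g).1 hg
  · rw [Uneg, e] at h; exact lt_irrefl _ h
  · show lv v < 0; rw [e]; exact mul_neg_of_pos_of_neg (by exact_mod_cast hj) h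

theorem lev_conj_radP' (M : GL (Fin 2) E × (Fin 3 → Eˣ)) {g : GL chevD4.Idx E} (hg : g ∈ RadP E) :
    (lev M)⁻¹ * g * lev M ∈ RadP E := by
  have := lev_conj_radP M⁻¹ hg
  rwa [map_inv, inv_inv] at this

theorem upos_pos : ∀ r : Fin chevD4.nroots, 0 < lv r.val → 12 ≤ r.val := by
  unfold lv lvf; decide +kernel

theorem closedPos_upos : ClosedPos chevD4 tb Upos := by
  refine ⟨fun r hr h => upos_pos ⟨r, hr⟩ h, fun r s v _ _ hr hs hv => ?_⟩
  obtain ⟨-, i, j, hi, hj, e⟩ := hv
  show 0 < lv v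
  rw [lv, e, lvf_add, lvf_smul, lvf_smul]
  exact add_pos (mul_pos (by exact_mod_cast hi) hr) (mul_pos (by exact_mod_cast hj) hs)

/-- a torus element with no trivial root value on a closed set centralises no element of its root group -/
theorem fixed_trivial {P : ℕ → Prop} (hP : ClosedPos chevD4 tb P) {χ : Fin chevD4.rank → Eˣ}
    (hne : ∀ r, r < chevD4.nroots → P r → chi χ (rv chevD4 tb r) ≠ 1) {g : GL chevD4.Idx E}
    (hg : g ∈ uGen chevD4 E P) (hcom : torus chevD4 tb E χ * g = g * torus chevD4 tb E χ) : g = 1 := by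
  classical
  obtain ⟨t, rfl⟩ := uGen_exists hc comm_one hP hg
  set L := rootsFrom chevD4 P 0
  have hconj : torus chevD4 tb E χ * uProd chevD4 E L t * (torus chevD4 tb E χ)⁻¹ =
      uProd chevD4 E L (fun r => (chi χ (rv chevD4 tb r) : E) * t r) := by
    have hL : ∀ r ∈ L, r < chevD4.nroots := fun r hr => (mem_rootsFrom.1 hr).2.1
    clear_value L
    clear hg hcom
    induction L with
    | nil => simp [uProd]
    | cons a L ih =>
      have e : ∀ u : ℕ → E, uProd chevD4 E (a :: L) u = elX chevD4 E a (u a) * uProd chevD4 E L u :=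
        fun u => by simp [uProd]
      rw [e, e, show ∀ τ x y : GL chevD4.Idx E, τ * (x * y) * τ⁻¹ = τ * x * τ⁻¹ * (τ * y * τ⁻¹) from
        fun τ x y => by group, torus_conj_elX hc χ (hL a (by simp)), ih fun r hr => hL r (by simp [hr])]
  rw [hcom, mul_inv_cancel_right] at hconj
  have h0 := uProd_inj hc hP.1 0 hconj
  refine List.prod_eq_one fun x hx => ?_
  obtain ⟨r, hr, rfl⟩ := List.mem_map.1 hx
  have h := h0 r hr
  have hr' := mem_rootsFrom.1 hr
  have hz : t r = 0 := by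
    by_contra hne'
    exact hne r hr'.2.1 hr'.2.2 (Units.ext ((mul_left_eq_self₀.1 h.symm).resolve_right hne'))
  rw [hz, elX_zero hc E hr'.2.1]

/-- the longest element -/
def W0 : List (Fin chevD4.rank) := [i1, i0, i2, i3, i1, i0, i2, i3, i1, i0, i2, i3]

theorem W0_spec : ∀ r : Fin chevD4.nroots, sigs chevD4 tb W0 r.val = 23 - r.val ∧
    sigs chevD4 tb W0.reverse r.val = 23 - r.val ∧
    (lv r.val < 0 → 0 < lv (23 - r.val)) ∧ (0 < lv r.val → lv (23 - r.val) < 0) := by
  unfold lv lvf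
  decide +kernel

theorem W0_radM {g : GL chevD4.Idx E} (hg : g ∈ RadM E) :
    nProd chevD4 E W0 * g * (nProd chevD4 E W0)⁻¹ ∈ RadP E := by
  induction hg using Subgroup.closure_induction with
  | mem x hx =>
    obtain ⟨r, t, hr, hP, rfl⟩ := hx
    obtain ⟨c, -, hcx⟩ := nProd_conj_elX hc (F := E) W0 hr
    rw [hcx]
    obtain ⟨h1, -, h2, -⟩ := W0_spec ⟨r, hr⟩
    exact elX_mem_uGen (sigs_lt hc W0 hr) (P := Upos) (show 0 < lv _ by rw [h1]; exact h2 hP) _
  | one => simp
  | mul a b _ _ ha hb =>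
    rw [show ∀ n : GL chevD4.Idx E, n * (a * b) * n⁻¹ = n * a * n⁻¹ * (n * b * n⁻¹) from fun n => by group]
    exact mul_mem ha hb
  | inv a _ ha =>
    rw [show ∀ n : GL chevD4.Idx E, n * a⁻¹ * n⁻¹ = (n * a * n⁻¹)⁻¹ from fun n => by group]
    exact inv_mem ha

theorem fixed_trivial_neg {χ : Fin chevD4.rank → Eˣ}
    (hne : ∀ r, r < chevD4.nroots → lv r ≠ 0 → chi χ (rv chevD4 tb r) ≠ 1) {g : GL chevD4.Idx E}
    (hg : g ∈ RadM E) (hcom : torus chevD4 tb E χ * g = g * torus chevD4 tb E χ) : g = 1 := by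
  set n := nProd chevD4 E W0
  have h := fixed_trivial closedPos_upos (χ := reflChars W0 χ) (fun r hr hP => ?_) (W0_radM hg) (by
    rw [← nProd_conj_torus hc W0 χ,
      show n * torus chevD4 tb E χ * n⁻¹ * (n * g * n⁻¹) = n * (torus chevD4 tb E χ * g) * n⁻¹ by group, hcom]
    simp only [n]
    group)
  · exact conj_eq_one_iff.1 h
  · obtain ⟨-, h1, -, h2⟩ := W0_spec ⟨r, hr⟩
    rw [ChevCent.chi_reflChars hc, ← rv_sigs hc _ hr, h1]
    exact hne _ (show 23 - r < 24 by omega) (h2 hP).ne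

theorem root_vals : ∀ r : Fin chevD4.nroots, 0 < lv r.val →
    (rv chevD4 tb r.val i0, rv chevD4 tb r.val i1, rv chevD4 tb r.val i2, rv chevD4 tb r.val i3) ∈
      ([(1, 0, 0, 0), (1, 1, 0, 0), (0, 0, 1, 0), (0, 1, 1, 0), (0, 0, 0, 1), (0, 1, 0, 1),
        (1, 1, 0, 1), (1, 1, 1, 0), (0, 1, 1, 1), (1, 1, 1, 1), (1, 2, 1, 1)] : List (ℤ × ℤ × ℤ × ℤ)) := by
  unfold lv lvf
  decide +kernel

set_option maxHeartbeats 1000000 in
/-- the diagonal elements used have no trivial root value -/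
theorem vals_ne {F : Type*} [Field F] (ι : F →+* E) {lu mu : Eˣ} {u0 u1 u2 : Fˣ}
    (hl : ∀ a : F, ι a ≠ lu) (hm : ∀ a : F, ι a ≠ mu) (hp : (lu : E) * mu = ι (u0 * u1 * u2))
    (h0 : (u0 : F) * u2 ≠ u1) (h1 : (u0 : F) * u1 ≠ u2) (h2 : (u1 : F) * u2 ≠ u0) {r : ℕ}
    (hr : r < chevD4.nroots) (hlv : 0 < lv r) :
    chi (chr4 (Units.map ι.toMonoidHom u0 ^ 2 / lu) (lu / mu) (Units.map ι.toMonoidHom u1 ^ 2 / lu)
      (Units.map ι.toMonoidHom u2 ^ 2 / lu)) (rv chevD4 tb r) ≠ 1 := by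
  intro e
  have hv := root_vals ⟨r, hr⟩ hlv
  simp only [List.mem_cons, List.not_mem_nil, or_false, Prod.mk.injEq] at hv
  rw [chi_four, chr4_0, chr4_1, chr4_2, chr4_3] at e
  have e' := congrArg (fun u : Eˣ => (u : E)) e
  set a0 := ι (u0 : F) with ha0
  set a1 := ι (u1 : F) with ha1
  set a2 := ι (u2 : F) with ha2
  have n0 : a0 ≠ 0 := by simp [a0]
  have n1 : a1 ≠ 0 := by simp [a1]
  have n2 : a2 ≠ 0 := by simp [a2]
  have nl := lu.ne_zero
  have nm := mu.ne_zero
  rw [map_mul, map_mul, ← ha0, ← ha1, ← ha2] at hp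
  have k0 : a0 * a2 ≠ a1 := fun h => h0 (ι.injective (by rw [map_mul]; exact h))
  have k1 : a0 * a1 ≠ a2 := fun h => h1 (ι.injective (by rw [map_mul]; exact h))
  have k2 : a1 * a2 ≠ a0 := fun h => h2 (ι.injective (by rw [map_mul]; exact h))
  rcases hv with ⟨v0, v1, v2, v3⟩ | ⟨v0, v1, v2, v3⟩ | ⟨v0, v1, v2, v3⟩ | ⟨v0, v1, v2, v3⟩ | ⟨v0, v1, v2, v3⟩ |
    ⟨v0, v1, v2, v3⟩ | ⟨v0, v1, v2, v3⟩ | ⟨v0, v1, v2, v3⟩ | ⟨v0, v1, v2, v3⟩ | ⟨v0, v1, v2, v3⟩ | ⟨v0, v1, v2, v3⟩ <;>
    rw [v0, v1, v2, v3] at e' <;>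
    simp only [zpow_zero, zpow_one, zpow_ofNat, mul_one, one_mul, Units.val_mul, Units.val_one, div_eq_mul_inv,
      Units.val_pow_eq_pow_val, Units.val_inv_eq_inv_val, Units.coe_map, RingHom.toMonoidHom_eq_coe,
      MonoidHom.coe_coe, ← ha0, ← ha1, ← ha2] at e' <;>
    field_simp at e'
  · exact hl ((u0 : F) ^ 2) (by rw [map_pow, ← ha0]; linear_combination e')
  · exact hm ((u0 : F) ^ 2) (by rw [map_pow, ← ha0]; linear_combination e')
  · exact hl ((u1 : F) ^ 2) (by rw [map_pow, ← ha1]; linear_combination e')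
  · exact hm ((u1 : F) ^ 2) (by rw [map_pow, ← ha1]; linear_combination e')
  · exact hl ((u2 : F) ^ 2) (by rw [map_pow, ← ha2]; linear_combination e')
  · exact hm ((u2 : F) ^ 2) (by rw [map_pow, ← ha2]; linear_combination e')
  · refine k0 ?_
    have h : (a0 * a2) * (a0 * a2 - a1) = 0 := by linear_combination e' + hp
    exact sub_eq_zero.1 ((mul_eq_zero.1 h).resolve_left (mul_ne_zero n0 n2))
  · refine k1 ?_
    have h : (a0 * a1) * (a0 * a1 - a2) = 0 := by linear_combination e' + hp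
    exact sub_eq_zero.1 ((mul_eq_zero.1 h).resolve_left (mul_ne_zero n0 n1))
  · refine k2 ?_
    have h : (a1 * a2) * (a1 * a2 - a0) = 0 := by linear_combination e' + hp
    exact sub_eq_zero.1 ((mul_eq_zero.1 h).resolve_left (mul_ne_zero n1 n2))
  · refine hm 1 ?_
    rw [map_one]
    have h : (lu : E) * mu * (lu : E) * ((mu : E) - 1) = 0 := by
      linear_combination ((lu : E) * mu + a0 * a1 * a2) * hp + e'
    exact (sub_eq_zero.1 ((mul_eq_zero.1 h).resolve_left (mul_ne_zero (mul_ne_zero nl nm) nl))).symm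
  · refine hl 1 ?_
    rw [map_one]
    have h : (lu : E) * mu * (mu : E) * ((lu : E) - 1) = 0 := by
      linear_combination ((lu : E) * mu + a0 * a1 * a2) * hp + e'
    exact (sub_eq_zero.1 ((mul_eq_zero.1 h).resolve_left (mul_ne_zero (mul_ne_zero nl nm) nm))).symm

end CfsgLib.D4Square
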