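import Cfsg.Agent.Lib.D4Square.Cells
import Cfsg.Agent.Lib.G2Square.Main

/-!
Every nontrivial element of the triality group is a product of two conjugates of one semisimple element of the
Levi subgroup.
-/

set_option autoImplicit false
set_option linter.unusedSectionVars false

namespace CfsgLib.D4Square

open Cfsg.Lie CfsgLib.Chev CfsgLib.ChevField CfsgLib.G2Invol CfsgLib.ChevSL2 CfsgLib.SteinbergTwo
open Matrix CfsgLib.Twisted
open CfsgLib.Twisted.D4 (tb comm_one sym sym_test sym_nodeTest orbit_ok sym_bnTest)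
open CfsgLib.G2Square (Good Cls)

variable {F : Type*} [Field F]

/-- an irreducible quadratic polynomial with nonzero linear coefficient and prescribed constant -/
theorem exists_trace [Fintype F] {d : F} (hd : d ≠ 0) (hd1 : d = 1 → (2 : F) = 0) :
    ∃ t : F, t ≠ 0 ∧ ∀ r : F, r ^ 2 - t * r + d ≠ 0 := by
  classical
  by_contra hcon
  push Not at hcon
  set f : {r : F // r ≠ 0} → F := fun r => r.1 + d / r.1 with hf
  have hhit : ∀ t : F, t ≠ 0 → ∃ r, f r = t := fun t ht => by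
    obtain ⟨r, hr⟩ := hcon t ht
    have hr0 : r ≠ 0 := fun e => hd (by rw [e] at hr; linear_combination hr)
    refine ⟨⟨r, hr0⟩, ?_⟩
    simp only [hf]
    field_simp
    linear_combination hr
  have hcard := Fintype.card_subtype_lt (p := fun r : F => r ≠ 0) (x := 0) (by simp)
  have h0 : ∀ r, f r ≠ 0 := fun r hr => by
    have hs : Function.Surjective f := fun t => by
      by_cases ht : t = 0
      · exact ⟨r, hr.trans ht.symm⟩
      · exact hhit t ht
    have := Fintype.card_le_of_surjective f hs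
    omega
  let g : {r : F // r ≠ 0} → {r : F // r ≠ 0} := fun r => ⟨f r, h0 r⟩
  have hg : Function.Surjective g := fun t => by
    obtain ⟨r, hr⟩ := hhit t.1 t.2
    exact ⟨r, Subtype.ext hr⟩
  have hinj := Finite.injective_iff_surjective.2 hg
  have h1 : d = 1 := by
    have := @hinj ⟨d, hd⟩ ⟨1, one_ne_zero⟩ (Subtype.ext (by simp [g, hf, hd, add_comm]))
    exact congrArg Subtype.val this
  exact h0 ⟨1, one_ne_zero⟩ (by simp [hf, h1]; linear_combination hd1 h1)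

/-- in odd characteristic one of two opposite matrices is good -/
theorem sign_good (h2 : (2 : F) ≠ 0) {d : F} (hd : d ≠ 0) {X : Matrix (Fin 2) (Fin 2) F} (hdet : det X = d ^ 2) :
    Good d X ∨ Good d (-X) := by
  by_cases hs : ∃ c : F, X = c • (1 : Matrix (Fin 2) (Fin 2) F)
  · obtain ⟨c, rfl⟩ := hs
    have hc : (c - d) * (c + d) = 0 := by
      rw [det_smul, det_one, mul_one, Fintype.card_fin] at hdet
      linear_combination hdet
    rcases mul_eq_zero.1 hc with e | e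
    · exact Or.inl (Or.inl (by rw [sub_eq_zero.1 e]))
    · exact Or.inr (Or.inl (by rw [← neg_smul, neg_eq_iff_add_eq_zero.2 e]))
  push Not at hs
  by_cases ht : trace X = 2 * d
  · refine Or.inr (Or.inr ⟨fun c e => hs (-c) (by rw [neg_smul, ← e, neg_neg]), fun e => ?_⟩)
    rw [trace_neg, ht] at e
    exact mul_ne_zero (mul_ne_zero h2 h2) hd (by linear_combination -e)
  · exact Or.inl (Or.inr ⟨hs, ht⟩)

variable {K : Type*} [Field K] [Fintype K] {φ : K ≃+* K} {ι : F →+* K}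

/-- irreducibility over the cubic extension -/
theorem irr_lift (h : Fld φ ι) {t d : F} (hirr : ∀ r : F, r ^ 2 - t * r + d ≠ 0) :
    ∀ r : K, r ^ 2 - ι t * r + ι d ≠ 0 := by
  intro r hr
  have e : φ r ^ 2 - ι t * φ r + ι d = 0 := by
    have := congrArg φ hr
    simpa [map_sub, map_add, map_mul, map_pow, h.fix] using this
  have h2 : (φ r - r) * (φ r + r - ι t) = 0 := by linear_combination e - hr
  have hfix : φ r = r := by
    rcases mul_eq_zero.1 h2 with e' | e'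
    · exact sub_eq_zero.1 e'
    · have e1 : φ r = ι t - r := by linear_combination e'
      have e2 : φ (φ r) = r := by rw [e1, map_sub, h.fix, e1]; ring
      have := congrArg φ e2
      rw [h.cube] at this
      exact this.symm
  obtain ⟨a, rfl⟩ := h.range r hfix
  refine hirr a (ι.injective ?_)
  simpa [map_sub, map_add, map_mul, map_pow] using hr

/-- elliptic elements of the Levi subgroup are diagonal over a quadratic extension -/
theorem lvt_diag (h : Fld φ ι) {t d : F} (ht : t ≠ 0) (hirr : ∀ r : F, r ^ 2 - t * r + d ≠ 0) {θ : Kˣ}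
    (hd : ι d = θ * φ θ * φ (φ θ)) {A : GL (Fin 2) F} (hA : Cls t d (A : Matrix (Fin 2) (Fin 2) F)) :
    ∃ (E : Type) (_ : Field E) (_ : Fintype E) (ι' : K →+* E) (Q : GL (Fin 2) E) (lu mu : Eˣ),
      (∀ a : K, ι' a ≠ lu) ∧ (∀ a : K, ι' a ≠ mu) ∧
      (lu : E) * mu = ι' ((θ : K) * (phiU φ θ : K) * (phiU φ (phiU φ θ) : K)) ∧
      lev (Q, 1) * glMap chevD4 ι' (lvt φ ι (A, θ)) * (lev (Q, 1))⁻¹ =
        lev (G2Square.diag2 lu mu, fun j => Units.map ι'.toMonoidHom (trip φ θ j)) := by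
  have hA' : Cls (ι t) (ι d) ((GeneralLinearGroup.map ι A : GL (Fin 2) K) : Matrix (Fin 2) (Fin 2) K) := by
    obtain ⟨h1, h2⟩ := hA
    constructor
    · rw [trace_fin_two, ← h1, trace_fin_two, map_add]; rfl
    · rw [det_fin_two, ← h2, det_fin_two, map_sub, map_mul, map_mul]; rfl
  have hirr' := irr_lift h hirr
  obtain ⟨E, iE, iF, ι', σ, Q, lu, mu, -, -, -, -, hp, hQ⟩ :=
    G2Square.elliptic_diag (by simpa using ht) hirr' hA'
  have hdiag : G2Square.diag2 lu mu = Q * GeneralLinearGroup.map ι' (GeneralLinearGroup.map ι A) * Q⁻¹ := by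
    rw [hQ, mul_inv_cancel_right]
  have hs : (lu : E) + mu = ι' (ι t) := by
    have := congrArg (fun M : GL (Fin 2) E => trace (M : Matrix (Fin 2) (Fin 2) E)) hdiag
    simp only [Units.val_mul, G2Square.trace_conj] at this
    rw [G2Square.coe_diag2, trace_fin_two] at this
    have e2 : trace ((GeneralLinearGroup.map ι' (GeneralLinearGroup.map ι A) : GL (Fin 2) E) :
        Matrix (Fin 2) (Fin 2) E) = ι' (ι t) := by
      rw [← hA'.1, trace_fin_two, trace_fin_two, map_add]; rfl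
    rw [e2] at this
    simpa using this
  refine ⟨E, iE, iF, ι', Q, lu, mu, fun a ha => hirr' a (ι'.injective ?_), fun a ha => hirr' a (ι'.injective ?_),
    ?_, ?_⟩
  · rw [map_add, map_sub, map_mul, map_pow, map_zero, ha, ← hs, ← hp]; ring
  · rw [map_add, map_sub, map_mul, map_pow, map_zero, ha, ← hs, ← hp]; ring
  · rw [hp, hd]; simp [coe_phiU]
  · rw [lvt_apply, glMap_lev, ← map_inv, ← map_mul, ← map_mul]
    congr 1
    refine Prod.ext ?_ ?_
    · simp [hdiag]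
    · simp

/-- the elliptic elements centralise no radical element -/
theorem regular (h : Fld φ ι) {t d : F} (ht : t ≠ 0) (hirr : ∀ r : F, r ^ 2 - t * r + d ≠ 0) {θ : Kˣ}
    (hd : ι d = θ * φ θ * φ (φ θ)) (hθ : (θ : K) * φ θ ≠ φ (φ θ)) {A : GL (Fin 2) F}
    (hA : Cls t d (A : Matrix (Fin 2) (Fin 2) F)) {g : GL chevD4.Idx K} (hg : g ∈ RadP K ∨ g ∈ RadM K)
    (hcom : lvt φ ι (A, θ) * g = g * lvt φ ι (A, θ)) : g = 1 := by
  obtain ⟨E, iE, iF, ι', Q, lu, mu, hl, hm, hp, hQ⟩ := lvt_diag h ht hirr hd hA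
  have e1 : (phiU φ θ : K) * (phiU φ (phiU φ θ) : K) ≠ (θ : K) := fun e => hθ (by
    have := congrArg (fun z => φ (φ z)) e
    simpa [coe_phiU, map_mul, h.cube] using this)
  have e2 : (θ : K) * (phiU φ (phiU φ θ) : K) ≠ (phiU φ θ : K) := fun e => hθ (by
    have := congrArg φ e
    simp only [coe_phiU, map_mul, h.cube] at this
    rw [mul_comm]; exact this)
  set T := chr4 (Units.map ι'.toMonoidHom θ ^ 2 / lu) (lu / mu) (Units.map ι'.toMonoidHom (phiU φ θ) ^ 2 / lu)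
    (Units.map ι'.toMonoidHom (phiU φ (phiU φ θ)) ^ 2 / lu) with hT
  have hchi : ∀ r, r < chevD4.nroots → lv r ≠ 0 → chi T (rv chevD4 tb r) ≠ 1 := by
    intro r hr hne
    rcases lt_or_gt_of_ne hne with hlt | hgt
    · intro e
      have hpos : 0 < lv (chevD4.neg r) := by
        rw [lv, rv_neg hc hr, show -rv chevD4 tb r = (-1 : ℤ) • rv chevD4 tb r by simp, lvf_smul, ← lv]
        omega
      refine vals_ne ι' hl hm hp e2 hθ e1 (neg_lt hc hr) hpos ?_
      rw [← hT, rv_neg hc hr, chi_neg, e, inv_one]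
    · exact vals_ne ι' hl hm hp e2 hθ e1 hr hgt
  have hdiag : lev (G2Square.diag2 lu mu, fun j => Units.map ι'.toMonoidHom (trip φ θ j)) =
      torus chevD4 tb E T := by
    rw [lev_diag]; rfl
  rw [hdiag] at hQ
  set l := lev (Q, (1 : Fin 3 → Eˣ)) with hl'
  have hcom' : torus chevD4 tb E T * (l * glMap chevD4 ι' g * l⁻¹) =
      l * glMap chevD4 ι' g * l⁻¹ * torus chevD4 tb E T := by
    rw [← hQ]
    have h' := congrArg (glMap chevD4 ι') hcom
    rw [map_mul, map_mul] at h'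
    calc l * glMap chevD4 ι' (lvt φ ι (A, θ)) * l⁻¹ * (l * glMap chevD4 ι' g * l⁻¹)
        = l * (glMap chevD4 ι' (lvt φ ι (A, θ)) * glMap chevD4 ι' g) * l⁻¹ := by group
      _ = _ := by rw [h']; group
  have key : l * glMap chevD4 ι' g * l⁻¹ = 1 := by
    rcases hg with hg | hg
    · exact fixed_trivial closedPos_upos (fun r hr hP => hchi r hr (ne_of_gt hP))
        (lev_conj_radP _ (ChevField.glMap_uGen hc ι' hg)) hcom'
    · exact fixed_trivial_neg hchi (lev_conj_radM _ (ChevField.glMap_uGen hc ι' hg)) hcom'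
  refine ChevField.glMap_injective ι' ?_
  rw [map_one]
  exact conj_eq_one_iff.1 key

theorem unit_preimage (h : Fld φ ι) (u : Kˣ) : ∃ E : Fˣ, ι (E : F) = u * φ u * φ (φ u) := by
  obtain ⟨E₀, hE₀⟩ := h.range ((u : K) * φ u * φ (φ u)) (by simp only [map_mul, h.cube]; ring)
  refine ⟨Units.mk0 E₀ fun e => ?_, hE₀⟩
  rw [e, map_zero] at hE₀
  exact (nm φ u).ne_zero hE₀.symm

/-- a twisted square root in characteristic two -/
theorem sqrt_two (h : Fld φ ι) (h2 : (2 : K) = 0) (u : Kˣ) : ∃ w : Kˣ, phiU φ w * phiU φ (phiU φ w) = u := by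
  refine ((Finite.injective_iff_surjective
    (f := fun w : Kˣ => phiU φ w * phiU φ (phiU φ w))).1 fun a b e' => ?_) u
  have e0 : φ (a : K) * φ (φ (a : K)) = φ (b : K) * φ (φ (b : K)) := congrArg Units.val e'
  have e1 := congrArg φ e0
  have e2 := congrArg φ e1
  simp only [map_mul, h.cube] at e1 e2
  have hb1 : φ (b : K) ≠ 0 := by simp
  have hb2 : φ (φ (b : K)) ≠ 0 := by simp
  have hsq : (a : K) ^ 2 = (b : K) ^ 2 :=
    mul_right_cancel₀ (mul_ne_zero hb1 hb2) <| by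
      calc (a : K) ^ 2 * (φ b * φ (φ b)) = (a : K) ^ 2 * (φ a * φ (φ a)) := by rw [e0]
        _ = ((a : K) * φ a) * (φ (φ a) * a) := by ring
        _ = ((b : K) * φ b) * (φ (φ b) * b) := by rw [e1, e2]
        _ = _ := by ring
  have h' : ((a : K) - b) ^ 2 = 0 := by linear_combination hsq + ((b : K) ^ 2 - a * b) * h2
  exact Units.ext (sub_eq_zero.1 (eq_zero_of_pow_eq_zero h'))

/-- the wanted Levi part for the third representative in characteristic two -/
theorem good_n3_even (h : Fld φ ι) (h2K : (2 : K) = 0) {d : F} (u : Kˣ) (L' : Matrix (Fin 2) (Fin 2) F)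
    (hdet : ∀ k : GL (Fin 2) F × Kˣ, k ∈ Lsub φ ι → k.2 = u →
      ((k.1 : Matrix (Fin 2) (Fin 2) F) * L').det = d ^ 2) :
    ∃ k, Hits φ ι (n3 K) k ∧ k.2 = u ∧ Good d ((k.1 : Matrix (Fin 2) (Fin 2) F) * L') := by
  obtain ⟨w, hw⟩ := sqrt_two h h2K u
  obtain ⟨E', hE'⟩ := unit_preimage h w
  have hk := hits_n3_square h w hE'
  have h2F : (2 : F) = 0 := ι.injective (by rw [map_ofNat, map_zero]; exact h2K)
  have hD : ((G2Square.diag2 E' E' : GL (Fin 2) F) : Matrix (Fin 2) (Fin 2) F) = (E' : F) • 1 := by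
    ext i j
    fin_cases i <;> fin_cases j <;> simp [G2Square.diag2]
  have hd0 := hdet _ hk.1 hw
  by_cases hg' : Good d (((G2Square.diag2 E' E' : GL (Fin 2) F) : Matrix (Fin 2) (Fin 2) F) * L')
  · exact ⟨_, hk, hw, hg'⟩
  rw [hD, smul_mul_assoc, one_mul] at hd0 hg'
  have hns : ∀ c : F, (E' : F) • L' ≠ c • (1 : Matrix (Fin 2) (Fin 2) F) := fun c hc' => hg' (Or.inl (by
    rw [hc', det_smul, det_one, mul_one, Fintype.card_fin] at hd0
    have h' : (c - d) ^ 2 = 0 := by linear_combination hd0 + (d ^ 2 - c * d) * h2F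
    rw [hc', sub_eq_zero.1 (eq_zero_of_pow_eq_zero h')]))
  have htr : trace ((E' : F) • L') = 0 := by
    by_contra hne
    exact hg' (Or.inr ⟨hns, by rw [h2F, zero_mul]; exact hne⟩)
  obtain ⟨P, hP⟩ := G2Square.exists_lower _ hns
  obtain ⟨Q, hQ0, hkQ⟩ := hits_n3_even h h2K w hE'
  refine ⟨_, hkQ.conj h P, by simp [upper, hw], ?_⟩
  set Pg : GL (Fin 2) F := SpecialLinearGroup.toGL P
  set Y := ((Pg⁻¹ : GL (Fin 2) F) : Matrix (Fin 2) (Fin 2) F) * ((E' : F) • L') * (Pg : Matrix (Fin 2) (Fin 2) F)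
    with hY
  have hYt : trace Y = 0 := by rw [hY, ← htr]; simpa using G2Square.trace_conj Pg⁻¹ ((E' : F) • L')
  have hgood : Good d (!![1, Q; 0, 1] * Y) := by
    have hmul : !![1, Q; 0, 1] * Y = !![Y 0 0 + Q * Y 1 0, Y 0 1 + Q * Y 1 1; Y 1 0, Y 1 1] := by
      ext i j
      fin_cases i <;> fin_cases j <;> simp [Matrix.mul_apply, Fin.sum_univ_two]
    rw [hmul]
    refine Or.inr ⟨fun c hc' => hP ?_, fun e' => mul_ne_zero hQ0 hP ?_⟩
    · have := congrFun (congrFun hc' 1) 0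
      simpa using this
    · rw [trace_fin_two, h2F, zero_mul] at e'
      rw [trace_fin_two] at hYt
      simp at e'
      linear_combination e' - hYt
  have hg2 := hgood.conj Pg
  convert hg2 using 1
  simp only [Prod.fst_mul, Prod.fst_inv, Units.val_mul, upper, hY, hD, mul_assoc, Units.mul_inv, mul_one,
    mul_smul_comm, smul_mul_assoc, one_mul]
  rfl

/-- the wanted Levi part for the third representative in odd characteristic -/
theorem good_n3_odd (h : Fld φ ι) (h2K : (2 : K) ≠ 0) {y : K} (hy : φ y ≠ y) {d : F} (hd0 : d ≠ 0) (u : Kˣ)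
    (L' : Matrix (Fin 2) (Fin 2) F)
    (hdet : ∀ k : GL (Fin 2) F × Kˣ, k ∈ Lsub φ ι → k.2 = u →
      ((k.1 : Matrix (Fin 2) (Fin 2) F) * L').det = d ^ 2) :
    ∃ k, Hits φ ι (n3 K) k ∧ k.2 = u ∧ Good d ((k.1 : Matrix (Fin 2) (Fin 2) F) * L') := by
  obtain ⟨E, hE⟩ := unit_preimage h u
  have h2F : (2 : F) ≠ 0 := fun e' => h2K (by rw [← map_ofNat ι, e', map_zero])
  have hsign : ∀ (a b : Fˣ), (∀ ε : Fˣ, (ε : F) * ε = 1 → Hits φ ι (n3 K) (G2Square.diag2 (ε * a) (ε * b), u)) →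
      ∃ k, Hits φ ι (n3 K) k ∧ k.2 = u ∧ Good d ((k.1 : Matrix (Fin 2) (Fin 2) F) * L') := by
    intro a b hhit
    have h₁ := hhit 1 (by simp)
    rcases sign_good h2F hd0 (hdet _ h₁.1 rfl) with hg' | hg'
    · exact ⟨_, h₁, rfl, hg'⟩
    · refine ⟨_, hhit (-1) (by simp), rfl, ?_⟩
      convert hg' using 1
      rw [← neg_mul]
      congr 1
      ext i j
      fin_cases i <;> fin_cases j <;> simp [G2Square.diag2]
  by_cases hE1 : (E : F) = 1
  · refine hsign 1 1 fun ε hε => ?_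
    rw [mul_one]
    have hNu : (u : K) * φ u * φ (φ u) = 1 := by rw [← hE, hE1, map_one]
    have hzz : ι (ε : F) * ι (ε : F) = 1 := by rw [← map_mul, hε, map_one]
    set w : Kˣ := Units.map ι.toMonoidHom ε * u⁻¹ with hw
    have hwE : ι (ε : F) = w * φ w * φ (φ w) := by
      simp only [hw, Units.val_mul, Units.coe_map, RingHom.toMonoidHom_eq_coe, MonoidHom.coe_coe,
        Units.val_inv_eq_inv_val, map_mul, map_inv₀, h.fix]
      rw [show ι (ε : F) * (u : K)⁻¹ * (ι (ε : F) * (φ (u : K))⁻¹) * (ι (ε : F) * (φ (φ (u : K)))⁻¹) =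
        ι (ε : F) * (ι (ε : F) * ι (ε : F)) * ((u : K) * φ u * φ (φ u))⁻¹ by
          simp only [mul_inv]; ring, hzz, hNu, inv_one, mul_one, mul_one]
    have := hits_n3_square h w hwE
    rwa [show phiU φ w * phiU φ (phiU φ w) = u from Units.ext (by
      simp only [hw, coe_phiU, Units.val_mul, Units.coe_map, RingHom.toMonoidHom_eq_coe, MonoidHom.coe_coe,
        Units.val_inv_eq_inv_val, map_mul, map_inv₀, h.fix]
      have n1 : φ (u : K) ≠ 0 := by simp
      have n2 : φ (φ (u : K)) ≠ 0 := by simp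
      field_simp
      linear_combination hzz - hNu)] at this
  · refine hsign 1 E fun ε hε => ?_
    rw [mul_one]
    exact hits_n3_odd h h2K hy u hE hE1 hε

set_option maxHeartbeats 800000 in
/-- Every nontrivial element of the triality group is a product of two conjugates of one semisimple element. -/
theorem main_fld [Fintype F] (h : Fld φ ι) (p : ℕ) [Fact p.Prime] [CharP K p]
    (hs : IsSimpleGroup ↥(GG φ)) (θ : Kˣ) (hθ : (θ : K) * φ θ ≠ φ (φ θ)) (hθ' : φ (θ : K) ≠ θ)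
    (hnorm : ∀ a : Fˣ, ∃ r : Kˣ, ι (a : F) = r * φ r * φ (φ r))
    (hd1 : (θ : K) * φ θ * φ (φ θ) = 1 → (2 : F) = 0) :
    ∃ x : ↥(GG φ), ¬ p ∣ orderOf x ∧
      ∀ g : ↥(GG φ), g ≠ 1 → ∃ u v : ↥(GG φ), g = (u * x * u⁻¹) * (v * x * v⁻¹) := by
  classical
  obtain ⟨d, hd⟩ := h.range ((θ : K) * φ θ * φ (φ θ)) (by simp only [map_mul, h.cube]; ring)
  have hd0 : d ≠ 0 := fun e => by
    rw [e, map_zero] at hd
    exact (nm φ θ).ne_zero hd.symm
  obtain ⟨t, ht, hirr⟩ := exists_trace hd0 fun e => hd1 (by rw [← hd, e, map_one])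
  let X : GL (Fin 2) F := GeneralLinearGroup.mkOfDetNeZero !![0, -d; 1, t] (by rw [det_fin_two_of]; simpa using hd0)
  have hX : Cls t d (X : Matrix (Fin 2) (Fin 2) F) := by
    show Cls t d !![0, -d; 1, t]
    exact ⟨by simp [trace_fin_two], by simp [det_fin_two]⟩
  have hmemL : ∀ A : GL (Fin 2) F, Cls t d (A : Matrix (Fin 2) (Fin 2) F) → (A, θ) ∈ Lsub φ ι := fun A hA => by
    rw [mem_Lsub, GeneralLinearGroup.val_det_apply, hA.2, hd]
  have hdet : ∀ M : GL (Fin 2) F, (M, θ * θ) ∈ Lsub φ ι → (M : Matrix (Fin 2) (Fin 2) F).det = d ^ 2 := by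
    intro M hM
    rw [mem_Lsub, GeneralLinearGroup.val_det_apply] at hM
    refine ι.injective (hM.trans ?_)
    rw [map_pow, hd, Units.val_mul]; simp only [map_mul]; ring
  refine ⟨⟨lvt φ ι (X, θ), lvt_mem h (hmemL X hX)⟩, ?_, fun g hg => ?_⟩
  · obtain ⟨E, iE, iF, ι', Q, lu, mu, -, -, -, hQ⟩ := lvt_diag h ht hirr hd.symm.symm hX
    intro hdvd
    haveI : CharP E p := charP_of_injective_ringHom ι'.injective p
    have hpow : (lvt φ ι (X, θ)) ^ (Fintype.card E - 1) = 1 := by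
      refine glMap_injective ι' ?_
      rw [map_pow, map_one]
      have htor : (lev (G2Square.diag2 lu mu, fun j => Units.map ι'.toMonoidHom (trip φ θ j))) ^
          (Fintype.card E - 1) = 1 := by
        have hu : ∀ a : Eˣ, a ^ (Fintype.card E - 1) = 1 := fun a => by
          rw [← Fintype.card_units]; exact pow_card_eq_one
        rw [lev_diag, ← map_pow, show chr4 _ _ _ _ ^ (Fintype.card E - 1) = 1 from funext fun i => by
          rw [Pi.pow_apply]; exact hu _, map_one]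
      rw [← hQ, conj_pow] at htor
      exact conj_eq_one_iff.1 htor
    have h1 : p ∣ Fintype.card E - 1 := by
      refine hdvd.trans ?_
      rw [← Subgroup.orderOf_coe]
      exact orderOf_dvd_of_pow_eq_one hpow
    obtain ⟨k, -, hk⟩ := FiniteField.card E p
    have h2 : p ∣ Fintype.card E := by rw [hk]; exact dvd_pow_self p (by simp)
    have h4 := Nat.dvd_sub h2 h1
    rw [show Fintype.card E - (Fintype.card E - 1) = 1 by have := Fintype.one_lt_card (α := E); omega] at h4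
    exact (Fact.out : p.Prime).not_dvd_one h4
  let C : Set (GL chevD4.Idx K) := {y | ∃ v ∈ GG φ, y = v * lvt φ ι (X, θ) * v⁻¹}
  have hC : ∀ y ∈ C, ∀ v ∈ GG φ, v * y * v⁻¹ ∈ C := by
    rintro _ ⟨w, hw, rfl⟩ v hv
    exact ⟨v * w, mul_mem hv hw, by group⟩
  have hclass : ∀ A : GL (Fin 2) F, Cls t d (A : Matrix (Fin 2) (Fin 2) F) → lvt φ ι (A, θ) ∈ C := fun A hA => by
    obtain ⟨P, rfl⟩ := G2Square.cls_conj hirr hX hA
    obtain ⟨r, hr⟩ := hnorm (GeneralLinearGroup.det P)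
    have hP : (P, r) ∈ Lsub φ ι := mem_Lsub.2 hr
    refine ⟨lvt φ ι (P, r), lvt_mem h hP, ?_⟩
    rw [← map_inv, ← map_mul, ← map_mul]
    congr 1
    exact Prod.ext rfl (by simp)
  have shift : ∀ (S : Subgroup (GL chevD4.Idx K)), (S = Up φ ∨ S = Um φ) → ∀ A : GL (Fin 2) F,
      Cls t d (A : Matrix (Fin 2) (Fin 2) F) → ∀ u ∈ S, u * lvt φ ι (A, θ) ∈ C := by
    intro S hS A hA u hu
    set L := lvt φ ι (A, θ) with hL
    have hcj : ∀ v ∈ S, L * v * L⁻¹ ∈ S := fun v hv => by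
      rcases hS with rfl | rfl
      exacts [conj_up h (hmemL A hA) hv, conj_um h (hmemL A hA) hv]
    have hSG : S ≤ GG φ := by rcases hS with rfl | rfl <;> exact inf_le_right
    let f : S → S := fun v => ⟨(v : GL chevD4.Idx K) * L * (v : GL chevD4.Idx K)⁻¹ * L⁻¹, by
      have := mul_mem v.2 (hcj _ (inv_mem v.2))
      simpa [mul_assoc] using this⟩
    have hf : Function.Injective f := by
      intro a b e
      have e' : (a : GL chevD4.Idx K) * L * (a : GL chevD4.Idx K)⁻¹ = b * L * (b : GL chevD4.Idx K)⁻¹ :=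
        mul_right_cancel (congrArg Subtype.val e)
      have hcom : L * ((b : GL chevD4.Idx K)⁻¹ * a) = (b : GL chevD4.Idx K)⁻¹ * a * L := by
        calc L * ((b : GL chevD4.Idx K)⁻¹ * a)
            = (b : GL chevD4.Idx K)⁻¹ * (b * L * (b : GL chevD4.Idx K)⁻¹) * a := by group
          _ = _ := by rw [← e']; group
      have hm : (b : GL chevD4.Idx K)⁻¹ * a ∈ S := mul_mem (inv_mem b.2) a.2
      have := regular h ht hirr hd hθ hA (by rcases hS with rfl | rfl; exacts [Or.inl hm.1, Or.inr hm.1]) hcom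
      exact Subtype.ext (inv_mul_eq_one.1 this).symm
    obtain ⟨v, hv⟩ := (Finite.injective_iff_surjective.1 hf) ⟨u, hu⟩
    have e : (v : GL chevD4.Idx K) * L * (v : GL chevD4.Idx K)⁻¹ * L⁻¹ = u := congrArg Subtype.val hv
    rw [show u * L = (v : GL chevD4.Idx K) * L * (v : GL chevD4.Idx K)⁻¹ by rw [← e]; group]
    exact hC _ (hclass A hA) _ (hSG v.2)
  have finish : ∀ n ∈ GG φ, ∀ k, Hits φ ι n k → ∀ L ∈ Lsub φ ι, (k * L).2 = θ * θ →
      Good d ((k * L).1 : Matrix (Fin 2) (Fin 2) F) → ∀ b₀ ∈ Up φ,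
      ∃ v ∈ GG φ, ∃ y ∈ C, ∃ z ∈ C, v * (n * (lvt φ ι L * b₀)) * v⁻¹ = y * z := by
    intro n hn k hk L hL h2 hgood b₀ hb₀
    obtain ⟨hkL, w, hw, a, ha, b, hb, e⟩ := hk
    have hkG := lvt_mem h hkL
    obtain ⟨ha', hb', -⟩ := descend (φ := φ) ha hb (M := ((GeneralLinearGroup.map ι).prodMap (trip φ)) k)
      (M' := ((GeneralLinearGroup.map ι).prodMap (trip φ)) k)
      (mem_fixedSub.mp (twistGrp_le_fixed hc sym_test φ hkG)) (e ▸ mul_mem hw.2 hn)
    have haU : a ∈ Um φ := Subgroup.mem_inf.2 ⟨ha, fixed_neg_mem φ ha (mem_fixedSub.mpr ha')⟩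
    have hbU : b ∈ Up φ := Subgroup.mem_inf.2 ⟨hb, fixed_pos_mem φ hb (mem_fixedSub.mpr hb')⟩
    have hM : ((k * L).1, θ * θ) ∈ Lsub φ ι := by rw [← h2]; exact mul_mem hkL hL
    obtain ⟨A, B, hA, hB, hAB⟩ := G2Square.cover ht hd0 hgood (hdet _ hM)
    set Ag : GL (Fin 2) F := GeneralLinearGroup.mkOfDetNeZero A (by rw [hA.2]; exact hd0)
    set Bg : GL (Fin 2) F := GeneralLinearGroup.mkOfDetNeZero B (by rw [hB.2]; exact hd0)
    have hKL : k * L = (Ag, θ) * (Bg, θ) := Prod.ext (Units.ext hAB.symm) h2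
    set lB := lvt φ ι (Bg, θ) with hlB
    have hbS : lB * ((lvt φ ι L)⁻¹ * b * lvt φ ι L * b₀ * w⁻¹) * lB⁻¹ ∈ Up φ :=
      conj_up h (hmemL Bg hB) (mul_mem (mul_mem (conj_up' h hL hbU) hb₀) (inv_mem hw))
    refine ⟨w, hw.2, a * lvt φ ι (Ag, θ), shift _ (Or.inr rfl) _ hA _ haU,
      (lB * ((lvt φ ι L)⁻¹ * b * lvt φ ι L * b₀ * w⁻¹) * lB⁻¹) * lB, shift _ (Or.inl rfl) _ hB _ hbS, ?_⟩
    calc w * (n * (lvt φ ι L * b₀)) * w⁻¹ = w * n * lvt φ ι L * b₀ * w⁻¹ := by group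
      _ = a * (lvt φ ι k * lvt φ ι L) * ((lvt φ ι L)⁻¹ * b * lvt φ ι L * b₀ * w⁻¹) := by rw [e]; group
      _ = _ := by rw [← map_mul, hKL, map_mul, ← hlB]; group
  have hgne : (g : GL chevD4.Idx K) ≠ 1 := fun e => hg (Subtype.ext e)
  obtain ⟨v₀, hv₀, hout⟩ := exists_conj_not_mem h hs hg
  obtain ⟨p₀, hp₀, q₀, hq₀, n, hn, e⟩ := cases_not_mem h (mul_mem (mul_mem hv₀ g.2) (inv_mem hv₀)) hout
  have hp₀G := PP_le h hp₀
  obtain ⟨L, hLmem, b₀, hb₀, hL⟩ := (mem_PP h).1 (mul_mem hq₀ hp₀)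
  obtain ⟨L', u'⟩ := L
  have hnG : n ∈ GG φ := by
    rcases hn with rfl | rfl | rfl
    exacts [n1_mem, n2_mem, n3_mem]
  obtain ⟨v₁, hv₁, y, hy, z, hz, hyz⟩ : ∃ v ∈ GG φ, ∃ y ∈ C, ∃ z ∈ C,
      v * (n * (lvt φ ι (L', u') * b₀)) * v⁻¹ = y * z := by
    set u : Kˣ := θ * θ * u'⁻¹ with hu
    obtain ⟨E₀, hE₀⟩ := h.range ((u : K) * φ u * φ (φ u)) (by simp only [map_mul, h.cube]; ring)
    have hE₀0 : E₀ ≠ 0 := fun e' => by
      rw [e', map_zero] at hE₀
      exact (nm φ u).ne_zero hE₀.symm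
    obtain ⟨E, hE⟩ : ∃ E : Fˣ, ι (E : F) = u * φ u * φ (φ u) := ⟨Units.mk0 E₀ hE₀0, hE₀⟩
    have huu : ∀ k : GL (Fin 2) F × Kˣ, k.2 = u → (k * (L', u')).2 = θ * θ := fun k hk => by
      rw [Prod.snd_mul, hk, hu, inv_mul_cancel_right]
    have hdetk : ∀ k : GL (Fin 2) F × Kˣ, k ∈ Lsub φ ι → k.2 = u →
        ((k.1 : Matrix (Fin 2) (Fin 2) F) * (L' : Matrix (Fin 2) (Fin 2) F)).det = d ^ 2 := fun k hk h2 => by
      have hm := mul_mem hk hLmem
      rw [show k * (L', u') = ((k * (L', u')).1, θ * θ) from Prod.ext rfl (huu k h2)] at hm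
      simpa using hdet _ hm
    have hup : ∀ K₀ : GL (Fin 2) F × Kˣ, Hits φ ι n K₀ → K₀.2 = u →
        (∀ σ, n * elX chevD4 K 14 σ * n⁻¹ ∈ RadP K) →
        ∃ v ∈ GG φ, ∃ y ∈ C, ∃ z ∈ C, v * (n * (lvt φ ι (L', u') * b₀)) * v⁻¹ = y * z := by
      intro K₀ hhit h2 hx
      have hN : ((L' : Matrix (Fin 2) (Fin 2) F) * (K₀.1 : Matrix (Fin 2) (Fin 2) F)).det = d ^ 2 := by
        rw [det_mul, mul_comm, ← det_mul]; exact hdetk _ hhit.1 h2
      obtain ⟨σ, hσ⟩ := G2Square.upper_good hN hd0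
      refine finish n hnG _ (hhit.upper h hnG σ (hx _)) _ hLmem (huu _ (by simp [upper, h2])) ?_ b₀ hb₀
      have := hσ.conj K₀.1
      convert this using 1
      simp only [Prod.fst_mul, Units.val_mul, upper, mul_assoc, Units.mul_inv, mul_one]
      rfl
    rcases hn with rfl | rfl | rfl
    · exact hup _ (hits_n1 h u hE) rfl fun σ => n_upper n1_upper σ
    · obtain ⟨σ₀, hσ₀⟩ := hits_n2 h u hE
      exact hup _ hσ₀ (by simp [upper]) fun σ => n_upper n2_upper σ
    · obtain ⟨k, hk, hku, hkg⟩ : ∃ k, Hits φ ι (n3 K) k ∧ k.2 = u ∧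
          Good d ((k.1 : Matrix (Fin 2) (Fin 2) F) * (L' : Matrix (Fin 2) (Fin 2) F)) := by
        by_cases h2K : (2 : K) = 0
        · exact good_n3_even h h2K u _ hdetk
        · exact good_n3_odd h h2K hθ' hd0 u _ hdetk
      exact finish _ hnG k hk _ hLmem (huu k hku) (by rw [Prod.fst_mul, Units.val_mul]; exact hkg) b₀ hb₀
  have hgy : v₁ * p₀⁻¹ * v₀ * (g : GL chevD4.Idx K) * (v₁ * p₀⁻¹ * v₀)⁻¹ = y * z := by
    rw [← hyz, ← hL]
    calc v₁ * p₀⁻¹ * v₀ * (g : GL chevD4.Idx K) * (v₁ * p₀⁻¹ * v₀)⁻¹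
        = v₁ * (p₀⁻¹ * (v₀ * (g : GL chevD4.Idx K) * v₀⁻¹) * p₀) * v₁⁻¹ := by group
      _ = _ := by rw [e]; group
  set V := v₁ * p₀⁻¹ * v₀
  have hV : V ∈ GG φ := mul_mem (mul_mem hv₁ (inv_mem hp₀G)) hv₀
  obtain ⟨a, ha, hya⟩ := hy
  obtain ⟨b, hb, hzb⟩ := hz
  refine ⟨⟨V⁻¹ * a, mul_mem (inv_mem hV) ha⟩, ⟨V⁻¹ * b, mul_mem (inv_mem hV) hb⟩, Subtype.ext ?_⟩
  show (g : GL chevD4.Idx K) = V⁻¹ * a * lvt φ ι (X, θ) * (V⁻¹ * a)⁻¹ * (V⁻¹ * b * lvt φ ι (X, θ) * (V⁻¹ * b)⁻¹)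
  calc (g : GL chevD4.Idx K) = V⁻¹ * (V * g * V⁻¹) * V := by group
    _ = _ := by rw [hgy, hya, hzb]; group

omit [Fintype K] in
/-- Every nontrivial element of ³D₄(q) is a product of two conjugates of one semisimple element. -/
theorem main [Fintype K] (p : ℕ) [Fact p.Prime] [CharP K p] (q : ℕ) (hq : IsPrimePow q)
    (hK : Fintype.card K = q ^ 3) :
    ∃ x : twistedD4 K q, ¬ p ∣ orderOf x ∧
      ∀ g : twistedD4 K q, g ≠ 1 → ∃ u v : twistedD4 K q, g = (u * x * u⁻¹) * (v * x * v⁻¹) := by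
  classical
  obtain ⟨φ, hφ⟩ := exists_frob hq three_ne_zero hK
  have hsimp := (Twisted.D4.simple_group hq hK).1
  rw [Twisted.D4.twistedD4_eq hK φ hφ] at hsimp ⊢
  set F := RingHom.eqLocusField φ.toRingHom (RingHom.id K)
  have h : Fld φ F.subtype :=
    ⟨fun x => iterate_frob_card hφ hK x, fun a => a.2, fun x hx => ⟨⟨x, hx⟩, rfl⟩⟩
  haveI : Fintype F := Fintype.ofFinite _
  obtain ⟨θ, hθ⟩ := IsCyclic.exists_generator (α := Kˣ)
  have hord : orderOf θ = q ^ 3 - 1 := by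
    rw [orderOf_eq_card_of_forall_mem_zpowers hθ, Nat.card_eq_fintype_card, Fintype.card_units, hK]
  have h2 := hq.two_le
  have hq2 : q ^ 2 + q + 1 < q ^ 3 := by nlinarith [Nat.mul_le_mul_right (q ^ 2) h2]
  have hq4 : 2 * q ≤ q ^ 2 := by nlinarith
  have hpow : ∀ n, (((θ ^ n : Kˣ)) : K) ^ q = φ ((θ ^ n : Kˣ) : K) := fun n => (hφ _).symm
  have hinj : ∀ a b, a < q ^ 3 - 1 → b < q ^ 3 - 1 → θ ^ a = θ ^ b → a = b := fun a b ha hb e =>
    pow_injOn_Iio_orderOf (show a < orderOf θ by rwa [hord]) (show b < orderOf θ by rwa [hord]) e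
  have hθ1 : (θ : K) * φ θ ≠ φ (φ θ) := by
    intro e
    have e' : θ ^ (1 + q) = θ ^ (q ^ 2) := Units.ext (by
      rw [hφ, hφ, ← pow_mul, ← sq] at e
      push_cast
      rw [pow_add, pow_one]
      exact e)
    have := hinj _ _ (by omega) (by omega) e'
    nlinarith [Nat.mul_le_mul_right q h2]
  have hθ2 : φ (θ : K) ≠ θ := by
    intro e
    have e' : θ ^ q = θ ^ 1 := Units.ext (by rw [hφ] at e; push_cast; rw [pow_one]; exact e)
    have := hinj _ _ (by omega) (by omega) e'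
    omega
  have hnorm : ∀ a : Fˣ, ∃ j : ℕ, F.subtype (a : F) =
      ((θ ^ j : Kˣ) : K) * φ ((θ ^ j : Kˣ) : K) * φ (φ ((θ ^ j : Kˣ) : K)) := by
    intro a
    obtain ⟨i, hi⟩ := mem_powers_iff_mem_zpowers.2 (hθ (Units.map F.subtype.toMonoidHom a))
    have hv : F.subtype (a : F) = (θ : K) ^ i := by
      have := congrArg Units.val hi
      simpa using this.symm
    have hfix : θ ^ (i * q) = θ ^ i := Units.ext (by
      push_cast
      rw [pow_mul, ← hφ, ← hv]
      exact h.fix _)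
    rw [pow_eq_pow_iff_modEq, hord] at hfix
    have hdvd : ((q : ℤ) ^ 3 - 1) ∣ (i : ℤ) * q - i := by
      have := Nat.modEq_iff_dvd.1 hfix.symm
      push_cast [Nat.cast_sub (show 1 ≤ q ^ 3 by omega)] at this
      simpa using this
    have hS : ((q : ℤ) ^ 2 + q + 1) ∣ (i : ℤ) := by
      obtain ⟨k, hk⟩ := hdvd
      have hq1 : (q : ℤ) - 1 ≠ 0 := by omega
      exact ⟨k, mul_left_cancel₀ hq1 (by linear_combination hk)⟩
    obtain ⟨j, hj⟩ : q ^ 2 + q + 1 ∣ i := by exact_mod_cast hS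
    refine ⟨j, ?_⟩
    rw [hv, hj, hφ, hφ]
    push_cast
    rw [← pow_mul, ← pow_mul, ← pow_add, ← pow_add]
    congr 1
    ring
  refine main_fld h p hsimp θ hθ1 hθ2 (fun a => ⟨_, (hnorm a).choose_spec⟩) fun hN => ?_
  have ha : ∀ a : Fˣ, (a : F) = 1 := fun a => by
    obtain ⟨j, hj⟩ := hnorm a
    refine F.subtype.injective (hj.trans ?_)
    rw [map_one]
    push_cast
    simp only [map_pow]
    rw [← mul_pow, ← mul_pow, hN, one_pow]
  have := ha (-1)
  simp only [Units.val_neg, Units.val_one] at this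
  linear_combination -this

end CfsgLib.D4Square
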