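import Cfsg.Agent.Lib.D4Square.Levi
import Cfsg.Agent.Lib.Twisted.D4Simple
import Cfsg.Agent.Lib.Twisted.D4Torus
import Cfsg.Agent.Lib.TwistSub.Setup

/-!
The twisted group of type D4, the Levi subgroup GL(2, q) of norm condition, the parabolic subgroup and its
double cosets.
-/

set_option autoImplicit false
set_option linter.unusedSectionVars false

namespace CfsgLib.D4Square

open Cfsg.Lie CfsgLib.Chev CfsgLib.ChevField CfsgLib.G2Invol CfsgLib.ChevSL2 CfsgLib.SteinbergTwo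
open Matrix CfsgLib.Twisted
open CfsgLib.Twisted.D4 (tb comm_one sym sym_test sym_nodeTest orbit_ok sym_bnTest)

variable {K : Type*} [Field K] {F : Type*} [Field F]

/-- the data: a field automorphism of order three and its fixed field -/
structure Fld (φ : K ≃+* K) (ι : F →+* K) : Prop where
  cube : ∀ x, φ (φ (φ x)) = x
  fix : ∀ a, φ (ι a) = ι a
  range : ∀ x, φ x = x → x ∈ Set.range ι

/-- the twisted group -/
noncomputable abbrev GG (φ : K ≃+* K) : Subgroup (GL chevD4.Idx K) := twistGrp sym_test φ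

/-- the automorphism on units -/
def phiU (φ : K ≃+* K) : Kˣ →* Kˣ := Units.map φ.toRingHom.toMonoidHom

theorem coe_phiU (φ : K ≃+* K) (u : Kˣ) : (phiU φ u : K) = φ (u : K) := rfl

/-- the norm -/
def nm (φ : K ≃+* K) : Kˣ →* Kˣ where
  toFun u := u * phiU φ u * phiU φ (phiU φ u)
  map_one' := by simp
  map_mul' a b := by simp only [map_mul]; ac_rfl

theorem coe_nm (φ : K ≃+* K) (u : Kˣ) : (nm φ u : K) = u * φ u * φ (φ u) := rfl

/-- the three conjugates -/
def trip (φ : K ≃+* K) : Kˣ →* (Fin 3 → Kˣ) where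
  toFun u := ![u, phiU φ u, phiU φ (phiU φ u)]
  map_one' := by funext j; fin_cases j <;> simp
  map_mul' a b := by funext j; fin_cases j <;> simp

/-- the embedding of the parameters -/
noncomputable def lvt (φ : K ≃+* K) (ι : F →+* K) : GL (Fin 2) F × Kˣ →* GL chevD4.Idx K :=
  lev.comp ((GeneralLinearGroup.map ι).prodMap (trip φ))

theorem lvt_apply (φ : K ≃+* K) (ι : F →+* K) (A : GL (Fin 2) F) (u : Kˣ) :
    lvt φ ι (A, u) = lev (GeneralLinearGroup.map ι A, trip φ u) := rfl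

/-- the parameters of the Levi subgroup -/
def Lsub (φ : K ≃+* K) (ι : F →+* K) : Subgroup (GL (Fin 2) F × Kˣ) :=
  MonoidHom.eqLocus ((Units.map ι.toMonoidHom).comp (GeneralLinearGroup.det.comp (MonoidHom.fst _ _)))
    ((nm φ).comp (MonoidHom.snd _ _))

theorem mem_Lsub {φ : K ≃+* K} {ι : F →+* K} {A : GL (Fin 2) F} {u : Kˣ} :
    (A, u) ∈ Lsub φ ι ↔ ι ((GeneralLinearGroup.det A : Fˣ) : F) = u * φ u * φ (φ u) := by
  show Units.map ι.toMonoidHom (GeneralLinearGroup.det A) = nm φ u ↔ _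
  rw [Units.ext_iff]
  rfl

theorem Lsub_sl {φ : K ≃+* K} {ι : F →+* K} (P : SpecialLinearGroup (Fin 2) F) :
    (SpecialLinearGroup.toGL P, (1 : Kˣ)) ∈ Lsub φ ι := by
  rw [mem_Lsub, show GeneralLinearGroup.det (SpecialLinearGroup.toGL P) = 1 from Units.ext P.2]
  simp

/-- the parameters of an upper unitriangular element -/
def upper (a : F) : GL (Fin 2) F × Kˣ := (SpecialLinearGroup.toGL (img F (true, a)), 1)

theorem upper_Lsub {φ : K ≃+* K} {ι : F →+* K} (a : F) : upper a ∈ Lsub φ ι := Lsub_sl _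

theorem lvt_sl (φ : K ≃+* K) (ι : F →+* K) (P : SpecialLinearGroup (Fin 2) F) :
    lvt φ ι (SpecialLinearGroup.toGL P, 1) = phi14 (SpecialLinearGroup.map ι P) := by
  rw [lvt_apply, map_one, show GeneralLinearGroup.map ι (SpecialLinearGroup.toGL P) =
    SpecialLinearGroup.toGL (SpecialLinearGroup.map ι P) from Units.ext rfl, lev_sl]

theorem map_img (ι : F →+* K) (b : Bool) (t : F) : SpecialLinearGroup.map ι (img F (b, t)) = img K (b, ι t) := by
  ext r s
  cases b <;> fin_cases r <;> fin_cases s <;> simp [coe_img]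

theorem lvt_upper (φ : K ≃+* K) (ι : F →+* K) (a : F) : lvt φ ι (upper a) = elX chevD4 K 14 (ι a) := by
  rw [upper, lvt_sl, map_img, phi14_true]

theorem slPart_map (ι : F →+* K) (A : GL (Fin 2) F) :
    G2Square.slPart (GeneralLinearGroup.map ι A) = SpecialLinearGroup.map ι (G2Square.slPart A) := by
  have hd : GeneralLinearGroup.det (GeneralLinearGroup.map ι A) =
      Units.map ι.toMonoidHom (GeneralLinearGroup.det A) :=
    Units.ext (by simp [GeneralLinearGroup.val_det_apply, RingHom.map_det, RingHom.mapMatrix_apply])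
  apply Subtype.ext
  rw [G2Square.coe_slPart, hd]
  ext i j
  fin_cases i <;> fin_cases j <;> simp [G2Square.coe_slPart, GeneralLinearGroup.map_apply]

theorem img_facts : sym.img 14 = 14 ∧ sym.img 9 = 9 ∧ sym.sgn 14 = 1 ∧ sym.sgn 9 = 1 ∧
    sym.olen 14 = 1 ∧ sym.olen 9 = 1 ∧ sym.olen 18 = 3 := by decide +kernel

theorem img_lv : ∀ r : Fin chevD4.nroots, lv (sym.img r.val) = lv r.val := by
  unfold lv lvf; decide +kernel

theorem sigma_rad {P : ℕ → Prop} (φ : K ≃+* K) (hP : ∀ r, r < chevD4.nroots → P r → P (sym.img r))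
    {g : GL chevD4.Idx K} (hg : g ∈ uGen chevD4 K P) : twistSigma sym sym_test φ g ∈ uGen chevD4 K P := by
  induction hg using Subgroup.closure_induction with
  | mem x hx =>
    obtain ⟨r, t, hr, hp, rfl⟩ := hx
    rw [twistSigma_elX hc sym_test φ hr]
    exact elX_mem_uGen (TwistSym.img_lt sym_test hr) (hP r hr hp) _
  | one => rw [map_one]; exact one_mem _
  | mul x y _ _ hx hy => rw [map_mul]; exact mul_mem hx hy
  | inv x _ hx => rw [map_inv]; exact inv_mem hx

theorem sigma_radP (φ : K ≃+* K) {g : GL chevD4.Idx K} (hg : g ∈ RadP K) :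
    twistSigma sym sym_test φ g ∈ RadP K :=
  sigma_rad φ (fun r hr h => show 0 < lv _ by rw [img_lv ⟨r, hr⟩]; exact h) hg

theorem sigma_radM (φ : K ≃+* K) {g : GL chevD4.Idx K} (hg : g ∈ RadM K) :
    twistSigma sym sym_test φ g ∈ RadM K :=
  sigma_rad φ (fun r hr h => show lv _ < 0 by rw [img_lv ⟨r, hr⟩]; exact h) hg

theorem radP_le_pos : RadP K ≤ chevD4.posUnipotent K := by
  rw [posUnipotent_eq hc]
  exact uGen_mono fun r hr h => upos_pos ⟨r, hr⟩ h

/-- entries do not lower a functional -/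
def NonLow (f : (Fin chevD4.rank → ℤ) → ℤ) (M : GL chevD4.Idx K) : Prop :=
  ∀ x y, (M : Matrix chevD4.Idx chevD4.Idx K) x y ≠ 0 → f (wI chevD4 tb y) ≤ f (wI chevD4 tb x)

theorem NonLow.mul {f : (Fin chevD4.rank → ℤ) → ℤ} {M N : GL chevD4.Idx K} (hM : NonLow f M) (hN : NonLow f N) :
    NonLow f (M * N) := by
  intro x y h
  rw [Units.val_mul, Matrix.mul_apply] at h
  obtain ⟨z, -, hz⟩ := Finset.exists_ne_zero_of_sum_ne_zero h
  exact (hN z y (right_ne_zero_of_mul hz)).trans (hM x z (left_ne_zero_of_mul hz))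

theorem nonLow_raises {f : (Fin chevD4.rank → ℤ) → ℤ} {d : ℤ} (hd : 0 ≤ d) {M : GL chevD4.Idx K}
    (h : Raises chevD4 tb f d (M : Matrix chevD4.Idx chevD4.Idx K)) : NonLow f M := by
  intro x y hxy
  by_cases e : x = y
  · rw [e]
  · have := h x y (by rwa [Matrix.one_apply_ne e]); omega

theorem lev_nonLow {f : (Fin chevD4.rank → ℤ) → ℤ} (hf : ∀ v w, f (v + w) = f v + f w)
    (hf' : ∀ (c : ℤ) v, f (c • v) = c * f v) (h14 : f (rv chevD4 tb 14) = 0)
    (M : GL (Fin 2) K × (Fin 3 → Kˣ)) : NonLow f (lev M) := by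
  obtain ⟨A, u⟩ := M
  rw [lev_apply]
  refine NonLow.mul (fun x y h => ?_) (nonLow_raises (d := 0) le_rfl ?_)
  · by_cases e : x = y
    · rw [e]
    · exact absurd (torus_diag_entry _ e) h
  · refine raises_uGen hc hf hf' le_rfl (P := fun r => r = 14 ∨ r = 9) (fun r _ h => ?_)
      (phi14_le (fun t => elX_mem_uGen n14 (P := fun r => r = 14 ∨ r = 9) (Or.inl rfl) t)
        (fun t => elX_mem_uGen (by decide) (P := fun r => r = 14 ∨ r = 9) (Or.inr rfl) t) _)
    rcases h with rfl | rfl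
    · rw [h14]
    · have h4 : rv chevD4 tb 9 = (-1 : ℤ) • rv chevD4 tb 14 := by
        rw [← neg14, rv_neg hc n14]; simp
      rw [h4, hf', h14, mul_zero]

theorem radM_inf {M : GL (Fin 2) K × (Fin 3 → Kˣ)} {b : GL chevD4.Idx K} (hb : b ∈ RadP K)
    (hm : lev M * b ∈ RadM K) : lev M * b = 1 := by
  have hR := raises_uGen hc (f := fun v => -lvf v) (fun v w => by simp [lvf_add]; ring)
    (fun c v => by show -lvf (c • v) = _; rw [lvf_smul]; ring) (d := 1) zero_le_one
    (fun r _ h => by have : lv r < 0 := h; simp only [lv] at this; omega) hm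
  have hQ : NonLow lvf (lev M * b) :=
    (lev_nonLow lvf_add lvf_smul lv_levi.1 M).mul
      (nonLow_raises (d := 1) zero_le_one (raises_uGen hc lvf_add lvf_smul zero_le_one
        (fun r _ h => by have : 0 < lv r := h; simp only [lv] at this; omega) hb))
  ext x y
  by_contra hne
  have h1 := hR x y hne
  simp only at h1
  by_cases h0 : (lev M * b : GL chevD4.Idx K).val x y = 0
  · by_cases e : x = y
    · subst e; omega
    · exact hne (by rw [h0, Units.val_one, Matrix.one_apply_ne e])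
  · have := hQ x y h0
    omega

theorem radP_inf {M : GL (Fin 2) K × (Fin 3 → Kˣ)} (hu : lev M ∈ RadP K) : lev M = 1 := by
  have hR := raises_uGen hc lvf_add lvf_smul (d := 1) zero_le_one
    (fun r _ h => by have : 0 < lv r := h; simp only [lv] at this; omega) hu
  have hQ : NonLow (fun v => -lvf v) (lev M) :=
    lev_nonLow (fun v w => by simp [lvf_add]; ring) (fun c v => by show -lvf (c • v) = _; rw [lvf_smul]; ring)
      (by simp [show lvf (rv chevD4 tb 14) = 0 from lv_levi.1]) M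
  ext x y
  by_contra hne
  have h1 := hR x y hne
  by_cases h0 : (lev M).val x y = 0
  · by_cases e : x = y
    · subst e; omega
    · exact hne (by rw [h0, Units.val_one, Matrix.one_apply_ne e])
  · have := hQ x y h0
    simp only at this
    omega

theorem elX9_lev (t : K) : elX chevD4 K 9 t = lev (SpecialLinearGroup.toGL (img K (false, t)), 1) := by
  rw [lev_sl, phi14_false]

theorem elX14_lev (t : K) : elX chevD4 K 14 t = lev (SpecialLinearGroup.toGL (img K (true, t)), 1) := by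
  rw [lev_sl, phi14_true]

variable {φ : K ≃+* K} {ι : F →+* K}

/-- rationality of the parts of an element of the open cell -/
theorem descend {a b : GL chevD4.Idx K} (ha : a ∈ RadM K) (hb : b ∈ RadP K)
    {M M' : GL (Fin 2) K × (Fin 3 → Kˣ)} (hM : twistSigma sym sym_test φ (lev M) = lev M')
    (hg : a * lev M * b ∈ GG φ) :
    twistSigma sym sym_test φ a = a ∧ twistSigma sym sym_test φ b = b ∧ lev M' = lev M := by
  set σ := twistSigma sym sym_test φ with hσ
  have hf : σ a * lev M' * σ b = a * lev M * b := by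
    rw [← hM, ← map_mul, ← map_mul]
    exact mem_fixedSub.mp (twistGrp_le_fixed hc sym_test φ hg)
  have e : a⁻¹ * σ a = lev (M * M'⁻¹) * (lev M' * (b * (σ b)⁻¹) * (lev M')⁻¹) := by
    rw [map_mul, map_inv]
    have : σ a = a * lev M * b * (σ b)⁻¹ * (lev M')⁻¹ := by rw [← hf]; group
    rw [this]; group
  have hmem : lev M' * (b * (σ b)⁻¹) * (lev M')⁻¹ ∈ RadP K :=
    lev_conj_radP M' (mul_mem hb (inv_mem (sigma_radP φ hb)))
  have h1 := radM_inf hmem (e ▸ mul_mem (inv_mem ha) (sigma_radM φ ha))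
  rw [h1, inv_mul_eq_one] at e
  rw [map_mul, map_inv] at h1
  have h2 : lev (M'⁻¹ * M) = (b * (σ b)⁻¹)⁻¹ := by
    rw [map_mul, map_inv]
    refine eq_inv_of_mul_eq_one_left ?_
    calc (lev M')⁻¹ * lev M * (b * (σ b)⁻¹)
        = (lev M')⁻¹ * (lev M * (lev M')⁻¹ * (lev M' * (b * (σ b)⁻¹) * (lev M')⁻¹)) * lev M' := by group
      _ = 1 := by rw [h1]; group
  have h3 := radP_inf (M := M'⁻¹ * M) (h2 ▸ inv_mem (mul_mem hb (inv_mem (sigma_radP φ hb))))
  rw [h3] at h2
  rw [map_mul, map_inv, inv_mul_eq_one] at h3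
  exact ⟨e.symm, (mul_inv_eq_one.mp (inv_eq_one.mp h2.symm)).symm, h3⟩

theorem fixed_pos_mem (φ : K ≃+* K) {b : GL chevD4.Idx K} (hb : b ∈ RadP K)
    (hf : b ∈ fixedSub sym sym_test φ) : b ∈ GG φ :=
  posU_fixed_le hc comm_one sym_test orbit_ok φ sym_nodeTest ⟨radP_le_pos hb, hf⟩

theorem nodeIter_vals : sym.nodeIter 1 0 = 2 ∧ sym.nodeIter 2 0 = 3 := by decide +kernel

/-- the word of the outer orbit -/
def wA : List (Fin chevD4.rank) := [i0, i2, i3]

theorem nA_eq (φ : K ≃+* K) : nProd chevD4 K wA = nOrb sym_test φ 0 := by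
  rw [nOrb, show chevD4.simple 0 = 18 from simple_vals.1, img_facts.2.2.2.2.2.2, orbProd_succ, orbProd_succ,
    orbProd_one, ← show chevD4.simple 0 = 18 from simple_vals.1, iter_elN_simple hc sym_test φ (by decide),
    iter_elN_simple hc sym_test φ (by decide), nodeIter_vals.1, nodeIter_vals.2, wA, nProd_cons, nProd_cons,
    nProd_cons, nProd_nil, mul_one]
  exact (mul_assoc _ _ _).symm

theorem nA_mem (φ : K ≃+* K) : nProd chevD4 K wA ∈ GG φ := by
  rw [nA_eq φ]; exact nOrb_mem hc sym_test φ sym_nodeTest (by decide)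

theorem nB_mem (φ : K ≃+* K) : nProd chevD4 K [i1] ∈ GG φ := by
  have h : nProd chevD4 K [i1] = nOrb sym_test φ 1 := by
    rw [nOrb, show chevD4.simple 1 = 14 from simple_vals.2.1, img_facts.2.2.2.2.1, orbProd_one, nProd_cons,
      nProd_nil, mul_one, simple_vals.2.1]
  rw [h]; exact nOrb_mem hc sym_test φ sym_nodeTest (by decide)

theorem nB_eq : nProd chevD4 K [i1] = phi14 jj := by
  rw [hom_jj hc n14 phi14 phi14_img, nProd_cons, nProd_nil, mul_one, simple_vals.2.1]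

theorem W0_mem (φ : K ≃+* K) : nProd chevD4 K W0 ∈ GG φ := by
  rw [show W0 = (([i1] ++ wA) ++ ([i1] ++ wA)) ++ ([i1] ++ wA) from rfl, nProd_append, nProd_append,
    nProd_append]
  have := mul_mem (nB_mem φ) (nA_mem φ)
  exact mul_mem (mul_mem this this) this

theorem fixed_neg_mem (φ : K ≃+* K) {a : GL chevD4.Idx K} (ha : a ∈ RadM K)
    (hf : a ∈ fixedSub sym sym_test φ) : a ∈ GG φ := by
  set n := nProd chevD4 K W0
  have hn := W0_mem (K := K) φ
  have hnf := twistGrp_le_fixed hc sym_test φ hn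
  have h := fixed_pos_mem φ (W0_radM ha) (mul_mem (mul_mem hnf hf) (inv_mem hnf))
  have h' := mul_mem (mul_mem (inv_mem hn) h) hn
  simpa [n, mul_assoc] using h'

theorem tau_pre : preNode sym_test i0 = i3 ∧ preNode sym_test i1 = i1 ∧ preNode sym_test i2 = i0 ∧
    preNode sym_test i3 = i2 := by decide +kernel

theorem cm_cols : (cm chevD4 i0 i0 = 2 ∧ cm chevD4 i0 i1 = -1 ∧ cm chevD4 i0 i2 = 0 ∧ cm chevD4 i0 i3 = 0) ∧
    (cm chevD4 i1 i0 = -1 ∧ cm chevD4 i1 i1 = 2 ∧ cm chevD4 i1 i2 = -1 ∧ cm chevD4 i1 i3 = -1) ∧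
    (cm chevD4 i2 i0 = 0 ∧ cm chevD4 i2 i1 = -1 ∧ cm chevD4 i2 i2 = 2 ∧ cm chevD4 i2 i3 = 0) ∧
    (cm chevD4 i3 i0 = 0 ∧ cm chevD4 i3 i1 = -1 ∧ cm chevD4 i3 i2 = 0 ∧ cm chevD4 i3 i3 = 2) := by
  decide +kernel

theorem hPar_vals (c : Fin chevD4.rank → Kˣ) (j : Fin chevD4.rank) :
    hPar chevD4 K c j = c i0 ^ cm chevD4 i0 j * c i1 ^ cm chevD4 i1 j * c i2 ^ cm chevD4 i2 j *
      c i3 ^ cm chevD4 i3 j := by
  show ∏ i, c i ^ cm chevD4 i j = _
  exact Fin.prod_univ_four _

theorem hPar_fix (φ : K ≃+* K) (d : Kˣ) (u : Kˣ) :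
    hPar chevD4 K (chr4 u d (phiU φ u) (phiU φ (phiU φ u))) =
      chr4 (trip φ u 0 ^ 2 / d) (d ^ 2 / nm φ u) (trip φ u 1 ^ 2 / d) (trip φ u 2 ^ 2 / d) := by
  obtain ⟨a, b, c, e⟩ := cm_cols
  apply chr4_ext <;> rw [hPar_vals, chr4_0, chr4_1, chr4_2, chr4_3] <;>
    simp only [a, b, c, e, zpow_zero, zpow_ofNat, _root_.zpow_neg, zpow_one, mul_one, one_mul, div_eq_mul_inv] <;>
    (apply Units.ext; simp [trip, nm] <;> ring)

theorem chr4_fix (h : Fld φ ι) {d : Kˣ} (hd : φ (d : K) = d) (u : Kˣ) :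
    chr4 u d (phiU φ u) (phiU φ (phiU φ u)) ∈ fixPar sym_test φ := by
  rw [mem_fixPar]
  obtain ⟨p0, p1, p2, p3⟩ := tau_pre
  apply chr4_ext <;> apply Units.ext
  · show φ _ = _; rw [p0, chr4_3]; exact h.cube _
  · show φ _ = _; rw [p1, chr4_1]; exact hd
  · show φ _ = _; rw [p2, chr4_0]; rfl
  · show φ _ = _; rw [p3, chr4_2]; rfl

theorem torus_mem (h : Fld φ ι) {d : Fˣ} {u : Kˣ} (hd : ι (d : F) = u * φ u * φ (φ u)) :
    torus chevD4 tb K (dchr (Units.map ι.toMonoidHom d) (trip φ u)) ∈ GG φ := by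
  have hn : nm φ u = Units.map ι.toMonoidHom d := Units.ext hd.symm
  have e : dchr (Units.map ι.toMonoidHom d) (trip φ u) =
      hPar chevD4 K (chr4 u (Units.map ι.toMonoidHom d) (phiU φ u) (phiU φ (phiU φ u))) := by
    rw [hPar_fix, hn, dchr, sq (Units.map ι.toMonoidHom d), mul_div_cancel_right]
  rw [e]
  exact torus_fixPar_mem hc sym_test φ orbit_ok sym_nodeTest sym_bnTest
    (chr4_fix h (h.fix _) u)

theorem lvt_mem (h : Fld φ ι) {k : GL (Fin 2) F × Kˣ} (hk : k ∈ Lsub φ ι) : lvt φ ι k ∈ GG φ := by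
  obtain ⟨A, u⟩ := k
  rw [lvt_apply, lev_apply, slPart_map,
    show GeneralLinearGroup.det (GeneralLinearGroup.map ι A) = Units.map ι.toMonoidHom (GeneralLinearGroup.det A) from
      Units.ext (by simp [GeneralLinearGroup.val_det_apply, RingHom.map_det, RingHom.mapMatrix_apply])]
  refine mul_mem (torus_mem h (mem_Lsub.1 hk)) ?_
  have hle : (⊤ : Subgroup (SpecialLinearGroup (Fin 2) F)) ≤
      (GG φ).comap (phi14.comp (SpecialLinearGroup.map ι)) := by
    rw [← closure_img F, Subgroup.closure_le]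
    rintro _ ⟨b, t, rfl⟩
    rw [SetLike.mem_coe, Subgroup.mem_comap, MonoidHom.comp_apply, map_img]
    obtain ⟨-, -, -, -, o14, o9, -⟩ := img_facts
    have hp : ∀ r, sym.olen r = 1 → IsPar sym φ r (ι t) := fun r hr => by
      rw [IsPar, hr, Function.iterate_one]; exact h.fix t
    cases b
    · rw [phi14_false]
      have := orbX_mem hc sym_test φ sym_nodeTest (r := 9) (by decide) (hp 9 o9)
      rwa [orbX, o9, orbProd_one] at this
    · rw [phi14_true]
      have := orbX_mem hc sym_test φ sym_nodeTest n14 (hp 14 o14)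
      rwa [orbX, o14, orbProd_one] at this
  exact hle (Subgroup.mem_top _)

/-- the Levi subgroup -/
noncomputable def Lg (φ : K ≃+* K) (ι : F →+* K) : Subgroup (GL chevD4.Idx K) := (Lsub φ ι).map (lvt φ ι)

/-- the rational radical -/
noncomputable def Up (φ : K ≃+* K) : Subgroup (GL chevD4.Idx K) := RadP K ⊓ GG φ

/-- the opposite rational radical -/
noncomputable def Um (φ : K ≃+* K) : Subgroup (GL chevD4.Idx K) := RadM K ⊓ GG φ

/-- the parabolic subgroup -/
noncomputable def PP (φ : K ≃+* K) (ι : F →+* K) : Subgroup (GL chevD4.Idx K) := Lg φ ι ⊔ Up φ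

theorem conj_up (h : Fld φ ι) {k : GL (Fin 2) F × Kˣ} (hk : k ∈ Lsub φ ι) {g : GL chevD4.Idx K}
    (hg : g ∈ Up φ) : lvt φ ι k * g * (lvt φ ι k)⁻¹ ∈ Up φ :=
  Subgroup.mem_inf.2 ⟨lev_conj_radP _ hg.1, mul_mem (mul_mem (lvt_mem h hk) hg.2) (inv_mem (lvt_mem h hk))⟩

theorem conj_up' (h : Fld φ ι) {k : GL (Fin 2) F × Kˣ} (hk : k ∈ Lsub φ ι) {g : GL chevD4.Idx K}
    (hg : g ∈ Up φ) : (lvt φ ι k)⁻¹ * g * lvt φ ι k ∈ Up φ := by
  have := conj_up h (inv_mem hk) hg
  rwa [map_inv, inv_inv] at this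

theorem conj_um (h : Fld φ ι) {k : GL (Fin 2) F × Kˣ} (hk : k ∈ Lsub φ ι) {g : GL chevD4.Idx K}
    (hg : g ∈ Um φ) : lvt φ ι k * g * (lvt φ ι k)⁻¹ ∈ Um φ :=
  Subgroup.mem_inf.2 ⟨lev_conj_radM _ hg.1, mul_mem (mul_mem (lvt_mem h hk) hg.2) (inv_mem (lvt_mem h hk))⟩

theorem mem_PP (h : Fld φ ι) {g : GL chevD4.Idx K} :
    g ∈ PP φ ι ↔ ∃ k ∈ Lsub φ ι, ∃ b ∈ Up φ, g = lvt φ ι k * b := by
  have hn : Lg φ ι ≤ Subgroup.normalizer (Up φ : Set (GL chevD4.Idx K)) := by
    rintro _ ⟨k, hk, rfl⟩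
    rw [Subgroup.mem_normalizer_iff]
    refine fun g => ⟨fun hg => conj_up h hk hg, fun hg => ?_⟩
    have := conj_up' h hk hg
    simpa [mul_assoc] using this
  rw [PP, ← SetLike.mem_coe, Subgroup.coe_mul_of_left_le_normalizer_right _ _ hn, Set.mem_mul]
  constructor
  · rintro ⟨_, ⟨k, hk, rfl⟩, b, hb, rfl⟩; exact ⟨k, hk, b, hb, rfl⟩
  · rintro ⟨k, hk, b, hb, rfl⟩; exact ⟨_, ⟨k, hk, rfl⟩, b, hb, rfl⟩

theorem PP_le (h : Fld φ ι) : PP φ ι ≤ GG φ :=
  sup_le (by rintro _ ⟨k, hk, rfl⟩; exact lvt_mem h hk) inf_le_right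

theorem pos_split : ∀ r : Fin chevD4.nroots, 12 ≤ r.val → r.val = 14 ∨ 0 < lv r.val := by
  unfold lv lvf; decide +kernel

theorem pos_fixed_PP (h : Fld φ ι) {u : GL chevD4.Idx K} (hu : u ∈ chevD4.posUnipotent K)
    (hf : u ∈ fixedSub sym sym_test φ) : u ∈ PP φ ι := by
  rw [posUnipotent_eq hc] at hu
  obtain ⟨a, b, hb, rfl⟩ : ∃ a : K, ∃ b ∈ RadP K, u = elX chevD4 K 14 a * b := by
    clear hf
    induction hu using Subgroup.closure_induction with
    | mem x hx =>
      obtain ⟨r, t, hr, hp, rfl⟩ := hx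
      rcases pos_split ⟨r, hr⟩ hp with e | e
      · obtain rfl : r = 14 := e
        exact ⟨t, 1, one_mem _, (mul_one _).symm⟩
      · exact ⟨0, elX chevD4 K r t, elX_mem_uGen hr (P := Upos) e t, by rw [elX_zero hc K n14, one_mul]⟩
    | one => exact ⟨0, 1, one_mem _, by rw [elX_zero hc K n14, one_mul]⟩
    | mul x y _ _ hx hy =>
      obtain ⟨a, b, hb, rfl⟩ := hx
      obtain ⟨a', b', hb', rfl⟩ := hy
      refine ⟨a + a', (elX chevD4 K 14 a')⁻¹ * b * elX chevD4 K 14 a' * b', mul_mem ?_ hb', ?_⟩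
      · rw [elX14_lev]; exact lev_conj_radP' _ hb
      · rw [← elX_add hc K n14]; group
    | inv x _ hx =>
      obtain ⟨a, b, hb, rfl⟩ := hx
      refine ⟨-a, elX chevD4 K 14 a * b⁻¹ * (elX chevD4 K 14 a)⁻¹, ?_, ?_⟩
      · rw [elX14_lev]; exact lev_conj_radP _ (inv_mem hb)
      · rw [← elX_inv hc K n14]; group
  have hf' := mem_fixedSub.mp hf
  rw [map_mul, twistSigma_elX hc sym_test φ n14, img_facts.1, img_facts.2.2.1, Int.cast_one, one_mul] at hf'
  have h1 : elX chevD4 K 14 (-a + φ a) = b * (twistSigma sym sym_test φ b)⁻¹ := by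
    rw [← elX_add hc K n14, ← elX_inv hc K n14, eq_mul_inv_iff_mul_eq, mul_assoc, hf', inv_mul_cancel_left]
  have h2 : elX chevD4 K 14 (-a + φ a) = 1 := by
    rw [elX14_lev]
    refine radP_inf ?_
    rw [← elX14_lev, h1]
    exact mul_mem hb (inv_mem (sigma_radP φ hb))
  have ha : φ a = a := by
    by_contra hne
    refine absurd (elX_root_unique hc (a := 14) (b := 9) n14 (by decide) (fun e => hne ?_)
      (h2.trans (elX_zero hc K (by decide)).symm)) (by decide)
    linear_combination e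
  obtain ⟨a', rfl⟩ := h.range a ha
  have hbf : b ∈ fixedSub sym sym_test φ := by
    rw [mem_fixedSub]
    rw [ha] at hf'
    exact mul_left_cancel hf'
  rw [← lvt_upper φ ι a']
  exact mul_mem (Subgroup.mem_sup_left ⟨_, upper_Lsub a', rfl⟩)
    (Subgroup.mem_sup_right ⟨hb, fixed_pos_mem φ hb hbf⟩)

theorem diag_PP [Fintype K] (h : Fld φ ι) {g : GL chevD4.Idx K} (hg : g ∈ chevD4.diagonalSubgroup K)
    (hg' : g ∈ GG φ) : g ∈ PP φ ι := by
  have hker : ∀ c : Fin chevD4.rank → Kˣ, hPar chevD4 K (tauPar sym_test φ c) = hPar chevD4 K c →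
      ∃ w, hPar chevD4 K w = 1 ∧ tauPar sym_test φ (c * w) = c * w :=
    exists_ker_three hc sym_test φ (fun c => by
      funext j
      apply Units.ext
      show φ (φ (φ (c (preNode sym_test (preNode sym_test (preNode sym_test j))) : K))) = _
      rw [Twisted.D4.pre_facts.2.2]
      exact h.cube _) Twisted.D4.ker_sq
  have h1 : g ∈ (fixPar sym_test φ).map ((torus chevD4 tb K).comp (hPar chevD4 K)) := by
    rw [← diag_inf_twist hc sym_test φ orbit_ok sym_nodeTest sym_bnTest hker]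
    exact ⟨hg, hg'⟩
  obtain ⟨c, hcf, rfl⟩ := h1
  have hcf' := mem_fixPar.1 hcf
  obtain ⟨p0, p1, p2, p3⟩ := tau_pre
  have e2 : c i2 = phiU φ (c i0) := by
    have := congrFun hcf' i2
    change Units.map _ (c (preNode sym_test i2)) = _ at this
    rw [p2] at this; exact this.symm
  have e3 : c i3 = phiU φ (phiU φ (c i0)) := by
    have := congrFun hcf' i3
    change Units.map _ (c (preNode sym_test i3)) = _ at this
    rw [p3, e2] at this; exact this.symm
  have e1 : φ (c i1 : K) = c i1 := by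
    have := congrFun hcf' i1
    change Units.map _ (c (preNode sym_test i1)) = _ at this
    rw [p1] at this; exact congrArg Units.val this
  obtain ⟨d, hd⟩ := h.range _ e1
  obtain ⟨N, hN⟩ := h.range ((nm φ (c i0) : Kˣ) : K) (by
    simp only [coe_nm, map_mul, h.cube]; ring)
  have hd0 : d ≠ 0 := fun e => (c i1).ne_zero (by rw [← hd, e, map_zero])
  have hN0 : N ≠ 0 := fun e => (nm φ (c i0)).ne_zero (by rw [← hN, e, map_zero])
  refine Subgroup.mem_sup_left ⟨(G2Square.diag2 (Units.mk0 d hd0) (Units.mk0 (N / d) (div_ne_zero hN0 hd0)), c i0), ?_, ?_⟩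
  · rw [SetLike.mem_coe, mem_Lsub, det_diag2, Units.val_mul, Units.val_mk0, Units.val_mk0, mul_div_cancel₀ _ hd0,
      hN, coe_nm]
  · rw [lvt_apply, MonoidHom.comp_apply,
      show GeneralLinearGroup.map ι (G2Square.diag2 (Units.mk0 d hd0) (Units.mk0 (N / d) (div_ne_zero hN0 hd0))) =
        G2Square.diag2 (c i1) (nm φ (c i0) / c i1) from Units.ext (by
          ext i j
          fin_cases i <;> fin_cases j <;> simp [G2Square.diag2, hd, hN]),
      lev_diag]
    congr 1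
    rw [show c = chr4 (c i0) (c i1) (phiU φ (c i0)) (phiU φ (phiU φ (c i0))) from chr4_ext rfl rfl e2 e3, hPar_fix]
    simp only [chr4_0, chr4_1]
    congr 1
    rw [div_div_eq_mul_div, ← sq]

end CfsgLib.D4Square
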